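import Cfsg.Agent.H284.EP.Engine

/-!
# Extremely primitive groups, the `T`-form (helper284)

`EPT A Γ`: `A` a maximal subgroup of the simple group `Q`, `Γ ≤ Aut(Q)` the group induced by the stabiliser `H` in the
almost simple group. The stabiliser in `Γ` of the point `xA` is `{σ ∈ Γ | x⁻¹ σ(x) ∈ A}`.
-/

set_option autoImplicit false
set_option linter.unusedSectionVars false

namespace Cfsg.Agent.H284

open MulAction Subgroup

/-- The facts about an extremely primitive almost simple group, in the language of the simple group. -/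
structure EPT {Q : Type*} [Group Q] (A : Subgroup Q) (Γ : Subgroup (MulAut Q)) : Prop where
  /-- `A` is maximal in `Q` -/
  max : IsCoatom A
  ne : A ≠ ⊥
  conj : ∀ a : Q, MulAut.conj a ∈ Γ ↔ a ∈ A
  inv : ∀ σ ∈ Γ, ∀ a : Q, σ a ∈ A ↔ a ∈ A
  /-- `N_Q(A) = A` -/
  selfnorm : ∀ x : Q, (∀ a ∈ A, x * a * x⁻¹ ∈ A) → x ∈ A
  /-- two point stabilisers are not trivial -/
  M0 : ∀ x, x ∉ A → A ⊓ cj x A ≠ ⊥
  /-- the stabiliser of `xA` is maximal in `Γ` -/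
  two : ∀ x, x ∉ A → ∀ L : Subgroup (MulAut Q), L ≤ Γ → (∀ σ ∈ Γ, x⁻¹ * σ x ∈ A → σ ∈ L) →
    L = Γ ∨ ∀ σ ∈ L, x⁻¹ * σ x ∈ A
  /-- (F1) -/
  F1 : ∀ x, x ∉ A → ∀ K : Subgroup Q, K ≤ A → (∀ σ ∈ Γ, ∀ k ∈ K, σ k ∈ K) → K ≤ cj x A → K = ⊥
  /-- (F1) for subgroups of `Γ` -/
  F1' : ∀ x, x ∉ A → ∀ K : Subgroup (MulAut Q), K ≤ Γ → (∀ σ ∈ Γ, ∀ k ∈ K, σ * k * σ⁻¹ ∈ K) →
    (∀ k ∈ K, x⁻¹ * k x ∈ A) → K = ⊥
  /-- (F3) `N_Γ(K)` for `K ≠ 1` in `M0` invariant under `Γ_{xA}` -/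
  norm : ∀ x, x ∉ A → ∀ K : Subgroup Q, K ≤ A ⊓ cj x A → (∀ σ ∈ Γ, x⁻¹ * σ x ∈ A → ∀ k ∈ K, σ k ∈ K) → K ≠ ⊥ →
    ∀ σ ∈ Γ, (∀ k ∈ K, σ k ∈ K) → x⁻¹ * σ x ∈ A
  /-- `C_Γ(A) = 1` -/
  cent : ∀ σ ∈ Γ, (∀ a ∈ A, σ a = a) → σ = 1
  /-- (F5) nilpotent `Γ`-invariant subgroups of `A` -/
  nilp : ∀ K : Subgroup Q, K ≤ A → (∀ σ ∈ Γ, ∀ k ∈ K, σ k ∈ K) → Group.IsNilpotent K → K ≠ ⊥ →
    (∀ a ∈ K, ∀ b ∈ K, a * b = b * a) ∧ (∃ r : ℕ, r.Prime ∧ ∀ a ∈ K, a ^ r = 1) ∧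
    (∀ σ ∈ Γ, (∀ k ∈ K, σ k = k) → ∃ a ∈ K, σ = MulAut.conj a) ∧
    (∀ x, x ∉ A → K ⊓ cj x A = ⊥ ∧ Nat.card K * Nat.card (A ⊓ cj x A : Subgroup Q) = Nat.card A) ∧
    A.index ≡ 1 [MOD Nat.card K]
  /-- (F3c) -/
  abM0 : ∀ x, x ∉ A → (∀ a ∈ A ⊓ cj x A, ∀ b ∈ A ⊓ cj x A, a * b = b * a) →
    ∃ K : Subgroup Q, K ≤ A ∧ (∀ σ ∈ Γ, ∀ k ∈ K, σ k ∈ K) ∧ K ≠ ⊥ ∧ ∀ a ∈ K, ∀ b ∈ K, a * b = b * a
  /-- (LS) -/
  index_le : A.index ≤ {M : Subgroup Q | ∃ x, x ∉ A ∧ M = A ⊓ cj x A}.ncard ^ 2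
  fix_le : ∀ t : Q, t ≠ 1 → {c : Q ⧸ A | t • c = c}.ncard ≤ {M : Subgroup Q | ∃ x, x ∉ A ∧ M = A ⊓ cj x A}.ncard

section

variable {G : Type*} [Group G] {T : Subgroup G} [hTn : T.Normal] {Q : Type*} [Group Q] (e : T ≃* Q)

/-- the action of `G` on `Q` -/
noncomputable def toAut : G →* MulAut Q := (MulAut.congr e).toMonoidHom.comp (MulAut.conjNormal (H := T))

/-- the embedding of `Q` -/
def toG : Q →* G := T.subtype.comp e.symm.toMonoidHom

theorem toG_inj : Function.Injective (toG e) := fun _ _ h => e.symm.injective (Subtype.ext h)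

theorem toG_mem (q : Q) : toG e q ∈ T := (e.symm q).2

theorem exists_toG {t : G} (ht : t ∈ T) : ∃ q, toG e q = t := ⟨e ⟨t, ht⟩, by
  show ((e.symm (e ⟨t, ht⟩) : T) : G) = t
  rw [MulEquiv.symm_apply_apply]⟩

theorem toG_toAut (g : G) (q : Q) : toG e (toAut e g q) = g * toG e q * g⁻¹ := by
  have h1 : toAut e g q = e (MulAut.conjNormal g (e.symm q)) := rfl
  show ((e.symm (toAut e g q) : T) : G) = _
  rw [h1, MulEquiv.symm_apply_apply, MulAut.conjNormal_apply]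
  rfl

theorem toAut_toG (q : Q) : toAut e (toG e q) = MulAut.conj q := by
  ext x
  apply toG_inj e
  rw [toG_toAut, MulAut.conj_apply, map_mul, map_mul, map_inv]

theorem toAut_inj (hC : Subgroup.centralizer (T : Set G) = ⊥) : Function.Injective (toAut e) := by
  rw [injective_iff_map_eq_one]
  intro g hg
  have h1 : g ∈ Subgroup.centralizer (T : Set G) := by
    rw [Subgroup.mem_centralizer_iff]
    intro t ht
    obtain ⟨q, rfl⟩ := exists_toG e ht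
    have h2 := toG_toAut e g q
    rw [hg, MulAut.one_apply, eq_mul_inv_iff_mul_eq] at h2
    exact h2
  rw [hC, mem_bot] at h1
  exact h1

/-- the subgroup `A` of `Q` -/
def TA (H : Subgroup G) : Subgroup Q := H.comap (toG e)

theorem mem_TA {H : Subgroup G} {q : Q} : q ∈ TA e H ↔ toG e q ∈ H := Iff.rfl

theorem cj_TA (H : Subgroup G) (x : Q) : cj x (TA e H) = TA e (cj (toG e x) H) := by
  ext q
  rw [mem_cj, mem_TA, mem_TA, mem_cj, map_mul, map_mul, map_inv]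

theorem inf_TA (H K : Subgroup G) : TA e H ⊓ TA e K = TA e (H ⊓ K) := rfl

theorem stab_iff {H : Subgroup G} {g : G} (hg : g ∈ H) (x : Q) :
    x⁻¹ * toAut e g x ∈ TA e H ↔ g ∈ cj (toG e x) H := by
  rw [mem_TA, map_mul, map_inv, toG_toAut, mem_cj]
  have e1 : (toG e x)⁻¹ * (g * toG e x * g⁻¹) = (toG e x)⁻¹ * g * toG e x * g⁻¹ := by group
  rw [e1]
  exact Subgroup.mul_mem_cancel_right H (H.inv_mem hg)

theorem map_toG_le {H : Subgroup G} {K : Subgroup Q} : K.map (toG e) ≤ H ↔ K ≤ TA e H := by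
  rw [Subgroup.map_le_iff_le_comap]
  rfl

theorem map_toG_ne {K : Subgroup Q} : K.map (toG e) ≠ ⊥ ↔ K ≠ ⊥ := by
  rw [Ne, Subgroup.map_eq_bot_iff_of_injective _ (toG_inj e)]

variable {H : Subgroup G}

theorem map_toG_norm {K : Subgroup Q} {L : Subgroup G}
    (hK : ∀ σ ∈ L.map (toAut e), ∀ k ∈ K, σ k ∈ K) :
    ∀ g ∈ L, ∀ k ∈ K.map (toG e), g * k * g⁻¹ ∈ K.map (toG e) := by
  rintro g hg _ ⟨k, hk, rfl⟩
  exact ⟨toAut e g k, hK _ ⟨g, hg, rfl⟩ k hk, toG_toAut e g k⟩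

/-- **The `T`-form of an extremely primitive almost simple group.** -/
theorem EP.toEPT [Finite G] (h : EP H) (hTs : IsSimpleGroup T) (hTc : ¬ ∀ a ∈ T, ∀ b ∈ T, a * b = b * a)
    (hC : Subgroup.centralizer (T : Set G) = ⊥) (hsol : Group.IsSolvable (G ⧸ T)) :
    EPT (TA e H) (H.map (toAut e)) := by
  have hT : T ≠ ⊥ := by
    intro e
    apply hTc
    intro a ha b hb
    rw [e, mem_bot] at ha hb
    rw [ha, hb]
  have hA := h.inf_T_ne_bot hsol hT hTc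
  have hM0 : ∀ x, x ∉ H → H ⊓ cj x H ⊓ T ≠ ⊥ := fun x hx => h.M0_ne_bot hsol hTs hTc hx
  have hinj := toAut_inj e hC
  have hmem : ∀ g : G, toAut e g ∈ H.map (toAut e) ↔ g ∈ H := fun g => Subgroup.mem_map_iff_mem hinj
  have hTA : ∀ K : Subgroup G, (TA e K).map (toG e) = K ⊓ T := by
    intro K
    ext g
    constructor
    · rintro ⟨q, hq, rfl⟩
      exact ⟨hq, toG_mem e q⟩
    · rintro ⟨h1, h2⟩
      obtain ⟨q, rfl⟩ := exists_toG e h2
      exact ⟨q, h1, rfl⟩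
  have hFinQ : Finite Q := Finite.of_injective _ (toG_inj e)
  -- the bijection of the coset spaces
  let φ : Q ⧸ TA e H → G ⧸ H := fun c => ((toG e c.out : G) : G ⧸ H)
  have hφ : ∀ q : Q, φ (q : Q ⧸ TA e H) = ((toG e q : G) : G ⧸ H) := by
    intro q
    show ((toG e (Quotient.out (q : Q ⧸ TA e H)) : G) : G ⧸ H) = ((toG e q : G) : G ⧸ H)
    have h1 : ((Quotient.out (q : Q ⧸ TA e H) : Q) : Q ⧸ TA e H) = (q : Q ⧸ TA e H) := QuotientGroup.out_eq' _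
    have h2 := QuotientGroup.eq.1 h1
    rw [QuotientGroup.eq]
    rw [mem_TA, map_mul, map_inv] at h2
    exact h2
  have hφi : Function.Injective φ := by
    intro c d hcd
    induction c using QuotientGroup.induction_on with
    | H x =>
      induction d using QuotientGroup.induction_on with
      | H y =>
        rw [hφ, hφ, QuotientGroup.eq] at hcd
        rw [QuotientGroup.eq, mem_TA, map_mul, map_inv]
        exact hcd
  have hφs : Function.Surjective φ := by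
    intro c
    induction c using QuotientGroup.induction_on with
    | H x =>
      obtain ⟨t, ht, a, ha, e1⟩ := h.exists_T hT x
      obtain ⟨q, rfl⟩ := exists_toG e ht
      refine ⟨(q : Q ⧸ TA e H), ?_⟩
      rw [hφ, e1, QuotientGroup.eq, inv_mul_cancel_left]
      exact ha
  have hidx : (TA e H).index = H.index := Nat.card_congr (Equiv.ofBijective φ ⟨hφi, hφs⟩)
  -- the two point stabilisers
  have htwo : (EP.twoSet H).ncard ≤ {M : Subgroup Q | ∃ x, x ∉ TA e H ∧ M = TA e H ⊓ cj x (TA e H)}.ncard := by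
    refine Set.ncard_le_ncard_of_injOn (fun M => TA e M) ?_ ?_ (Set.toFinite _)
    · rintro _ ⟨x, hx, rfl⟩
      obtain ⟨t, ht, h1, h2⟩ := h.exists_cj_T hT x
      obtain ⟨q, rfl⟩ := exists_toG e ht
      refine ⟨q, h2 hx, ?_⟩
      show TA e (H ⊓ cj x H) = _
      rw [h1, cj_TA, inf_TA]
    · have key : ∀ x y, x ∉ H → y ∉ H → TA e (H ⊓ cj x H) = TA e (H ⊓ cj y H) → H ⊓ cj y H ≤ H ⊓ cj x H := by
        intro x y hx _ he m hm
        have he' : H ⊓ cj x H ⊓ T = H ⊓ cj y H ⊓ T := by rw [← hTA, ← hTA, he]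
        refine ⟨(mem_inf.1 hm).1, ?_⟩
        apply h.norm hx (X := H ⊓ cj x H ⊓ T) inf_le_left _ (hM0 x hx) (mem_inf.1 hm).1
        · intro k hk
          rw [he'] at hk ⊢
          exact ⟨(H ⊓ cj y H).mul_mem ((H ⊓ cj y H).mul_mem hm (mem_inf.1 hk).1) ((H ⊓ cj y H).inv_mem hm),
            hTn.conj_mem k (mem_inf.1 hk).2 m⟩
        · intro m' hm' k hk
          exact ⟨(H ⊓ cj x H).mul_mem ((H ⊓ cj x H).mul_mem hm' (mem_inf.1 hk).1) ((H ⊓ cj x H).inv_mem hm'),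
            hTn.conj_mem k (mem_inf.1 hk).2 m'⟩
      rintro _ ⟨x, hx, rfl⟩ _ ⟨y, hy, rfl⟩ he
      exact le_antisymm (key y x hy hx he.symm) (key x y hx hy he)
  refine ⟨⟨?_, ?_⟩, ?_, ?_, ?_, ?_, ?_, ?_, ?_, ?_, ?_, ?_, ?_, ?_, ?_, ?_⟩
  · intro he
    apply h.T_not_le hT
    intro t ht
    obtain ⟨q, rfl⟩ := exists_toG e ht
    have : q ∈ TA e H := by rw [he]; exact mem_top _
    exact this
  · intro L hL
    rcases h.T_max hA (L := L.map (toG e)) (by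
      rw [← hTA]; exact Subgroup.map_mono hL.le) (by
      rintro _ ⟨q, _, rfl⟩
      exact toG_mem e q) with h1 | h1
    · exfalso
      rw [← hTA] at h1
      exact hL.ne' (Subgroup.map_injective (toG_inj e) h1)
    · rw [Subgroup.eq_top_iff']
      intro q
      have h2 : toG e q ∈ L.map (toG e) := by rw [h1]; exact toG_mem e q
      exact (Subgroup.mem_map_iff_mem (toG_inj e)).1 h2
  · rw [← map_toG_ne e, hTA]
    exact hA
  · intro a
    rw [← toAut_toG e, hmem]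
    rfl
  · rintro _ ⟨g, hg, rfl⟩ a
    rw [mem_TA, mem_TA, toG_toAut]
    rw [Subgroup.mul_mem_cancel_right H (H.inv_mem hg), Subgroup.mul_mem_cancel_left H hg]
  · intro x hx
    apply h.norm_A hTs hA (toG_mem e x)
    rintro a ⟨ha1, ha2⟩
    obtain ⟨q, rfl⟩ := exists_toG e ha2
    have := hx q ha1
    rw [mem_TA, map_mul, map_mul, map_inv] at this
    exact ⟨this, T.mul_mem (T.mul_mem (toG_mem e x) ha2) (T.inv_mem (toG_mem e x))⟩
  · intro x hx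
    rw [cj_TA, inf_TA, ← map_toG_ne e, hTA]
    exact hM0 _ hx
  · intro x hx L hL hLx
    rcases h.two (toG e x) hx (L.comap (toAut e) ⊓ H) (by
      intro g hg
      refine ⟨hLx _ ⟨g, (mem_inf.1 hg).1, rfl⟩ ((stab_iff e (mem_inf.1 hg).1 x).2 (mem_inf.1 hg).2),
        (mem_inf.1 hg).1⟩) inf_le_right with h1 | h1
    · right
      intro σ hσ
      obtain ⟨g, hg, rfl⟩ := hL hσ
      rw [stab_iff e hg]
      have : g ∈ L.comap (toAut e) ⊓ H := ⟨hσ, hg⟩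
      rw [h1] at this
      exact (mem_inf.1 this).2
    · left
      apply le_antisymm hL
      rintro _ ⟨g, hg, rfl⟩
      rw [← h1] at hg
      exact hg.1
  · intro x hx K hK hKn hKx
    rw [cj_TA] at hKx
    have h1 := h.F1 ((map_toG_le e).2 hK) (map_toG_norm e hKn) (x := toG e x) hx ((map_toG_le e).2 hKx)
    by_contra hne
    exact (map_toG_ne e).2 hne h1
  · intro x hx K hK hKn hKx
    have h1 : K.comap (toAut e) ⊓ H = ⊥ := by
      apply h.F1 (x := toG e x) inf_le_right _ hx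
      · intro g hg
        rw [← stab_iff e (mem_inf.1 hg).2]
        exact hKx _ (mem_inf.1 hg).1
      · rintro g hg k ⟨hk1, hk2⟩
        refine ⟨?_, H.mul_mem (H.mul_mem hg hk2) (H.inv_mem hg)⟩
        show toAut e (g * k * g⁻¹) ∈ K
        rw [map_mul, map_mul, map_inv]
        exact hKn _ ⟨g, hg, rfl⟩ _ hk1
    rw [Subgroup.eq_bot_iff_forall]
    intro σ hσ
    obtain ⟨g, hg, rfl⟩ := hK hσ
    have h2 : g ∈ K.comap (toAut e) ⊓ H := ⟨hσ, hg⟩
    rw [h1, mem_bot] at h2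
    rw [h2, map_one]
  · intro x hx K hK hKn hne σ hσ hσK
    obtain ⟨g, hg, rfl⟩ := hσ
    rw [stab_iff e hg]
    rw [cj_TA, inf_TA] at hK
    apply h.norm hx ((map_toG_le e).2 hK) _ ((map_toG_ne e).2 hne) hg
    · rintro _ ⟨k, hk, rfl⟩
      exact ⟨_, hσK k hk, toG_toAut e g k⟩
    · rintro m hm _ ⟨k, hk, rfl⟩
      exact ⟨_, hKn _ ⟨m, (mem_inf.1 hm).1, rfl⟩ ((stab_iff e (mem_inf.1 hm).1 x).2 (mem_inf.1 hm).2) k hk,
        toG_toAut e m k⟩
  · rintro _ ⟨g, hg, rfl⟩ hgA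
    obtain ⟨x, hx⟩ := h.exists_notMem
    have : g = 1 := by
      apply h.cent_A hx (hM0 x hx) hg
      rintro a ⟨ha1, ha2⟩
      obtain ⟨q, rfl⟩ := exists_toG e ha2
      have h2 := toG_toAut e g q
      rw [hgA q ha1, eq_mul_inv_iff_mul_eq] at h2
      exact h2.symm
    rw [this, map_one]
  · intro K hK hKn hnil hne
    have hX := (map_toG_le e).2 hK
    have hXn := map_toG_norm e hKn
    have hXne := (map_toG_ne e).2 hne
    have hXnil : Group.IsNilpotent (K.map (toG e)) := by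
      have e2 : K ≃* K.map (toG e) := K.equivMapOfInjective _ (toG_inj e)
      exact Group.nilpotent_of_surjective e2.toMonoidHom e2.surjective
    have hXab := h.nilp_ab hX hXn hXnil
    have hmemX : ∀ k, toG e k ∈ K.map (toG e) ↔ k ∈ K := fun k => Subgroup.mem_map_iff_mem (toG_inj e)
    have hcard : Nat.card (K.map (toG e)) = Nat.card K :=
      (Nat.card_congr (K.equivMapOfInjective _ (toG_inj e)).toEquiv).symm
    refine ⟨?_, ?_, ?_, ?_, ?_⟩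
    · intro a ha b hb
      apply toG_inj e
      rw [map_mul, map_mul]
      exact hXab _ ((hmemX a).2 ha) _ ((hmemX b).2 hb)
    · obtain ⟨r, hr, hr'⟩ := h.ab_elem hX hXn hXne hXab
      refine ⟨r, hr, fun a ha => toG_inj e ?_⟩
      rw [map_pow, map_one]
      exact hr' _ ((hmemX a).2 ha)
    · rintro _ ⟨g, hg, rfl⟩ hgK
      have h1 := h.ab_cent hX hXn hXne hXab hg (by
        rintro _ ⟨k, hk, rfl⟩
        have h2 := toG_toAut e g k
        rw [hgK k hk, eq_mul_inv_iff_mul_eq] at h2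
        exact h2.symm)
      obtain ⟨a, ha, rfl⟩ := h1
      exact ⟨a, ha, toAut_toG e a⟩
    · intro x hx
      have hinf : K ⊓ cj x (TA e H) = ⊥ := by
        rw [Subgroup.eq_bot_iff_forall]
        intro k hk
        have h1 := h.ab_inf hX hXn hXne hXab (x := toG e x) hx
        have h2 : toG e k ∈ K.map (toG e) ⊓ cj (toG e x) H := by
          refine ⟨(hmemX k).2 (mem_inf.1 hk).1, ?_⟩
          have := (mem_inf.1 hk).2
          rw [cj_TA] at this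
          exact this
        rw [h1, mem_bot] at h2
        apply toG_inj e
        rw [h2, map_one]
      refine ⟨hinf, ?_⟩
      rw [← Nat.card_prod]
      apply Nat.card_congr
      refine Equiv.ofBijective (fun p => (⟨p.1.1 * p.2.1, mul_mem (hK p.1.2) (mem_inf.1 p.2.2).1⟩ : TA e H)) ⟨?_, ?_⟩
      · rintro ⟨a, b⟩ ⟨c, d⟩ he
        have e1 : (a : Q) * b = c * d := Subtype.ext_iff.1 he
        have e2 : (c : Q)⁻¹ * a = d * (b : Q)⁻¹ := by
          rw [inv_mul_eq_iff_eq_mul, ← mul_assoc, ← e1, mul_assoc, mul_inv_cancel, mul_one]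
        have h1 : (c : Q)⁻¹ * a ∈ K ⊓ cj x (TA e H) := by
          refine ⟨K.mul_mem (K.inv_mem c.2) a.2, ?_⟩
          rw [e2]
          exact (cj x (TA e H)).mul_mem (mem_inf.1 d.2).2 ((cj x (TA e H)).inv_mem (mem_inf.1 b.2).2)
        rw [hinf, mem_bot] at h1
        rw [h1] at e2
        rw [inv_mul_eq_one] at h1
        have h2 : (d : Q) = b := by
          rw [eq_comm, mul_inv_eq_one] at e2
          exact e2
        exact Prod.ext (Subtype.ext h1.symm) (Subtype.ext h2.symm)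
      · rintro ⟨g, hg⟩
        obtain ⟨_, ⟨k, hk, rfl⟩, m, hm, e1⟩ := h.fac hX hXn hXne (x := toG e x) hx (g := toG e g) hg
        have hmT : m ∈ T := by
          have h2 : m = (toG e k)⁻¹ * toG e g := by rw [e1, inv_mul_cancel_left]
          rw [h2]
          exact T.mul_mem (T.inv_mem (toG_mem e k)) (toG_mem e g)
        obtain ⟨q, rfl⟩ := exists_toG e hmT
        refine ⟨(⟨k, hk⟩, ⟨q, ?_⟩), ?_⟩
        · rw [cj_TA, inf_TA]
          exact hm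
        · apply Subtype.ext
          apply toG_inj e
          show toG e (k * q) = toG e g
          rw [map_mul, e1]
    · rw [hidx, ← hcard]
      exact h.ab_index hX hXn hXne hXab
  · intro x hx hab
    rw [cj_TA, inf_TA] at hab
    obtain ⟨K, h1, h2, h3, h4⟩ := h.abelian_M0 (T := T) (x := toG e x) hx hA (by
      rintro a ⟨ha1, ha2⟩ b ⟨hb1, hb2⟩
      obtain ⟨p, rfl⟩ := exists_toG e ha2
      obtain ⟨q, rfl⟩ := exists_toG e hb2
      rw [← map_mul, hab p ha1 q hb1, map_mul]) (hM0 _ hx)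
    refine ⟨TA e K, fun q hq => (mem_inf.1 (h1 hq)).1, ?_, ?_, ?_⟩
    · rintro _ ⟨g, hg, rfl⟩ k hk
      rw [mem_TA, toG_toAut]
      exact h2 g hg _ hk
    · rw [← map_toG_ne e, hTA, inf_eq_left.2 (h1.trans inf_le_right)]
      exact h3
    · intro a ha b hb
      apply toG_inj e
      rw [map_mul, map_mul]
      exact h4 _ ha _ hb
  · rw [hidx]
    refine (h.index_le_sq ?_).trans (Nat.pow_le_pow_left htwo 2)
    intro x hx e1
    apply hM0 x hx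
    rw [e1, bot_inf_eq]
  · intro t ht
    refine le_trans ?_ ((h.fix_le (M := {toG e t}) ⟨_, rfl, fun e1 => ht (toG_inj e (e1.trans (map_one _).symm))⟩).trans htwo)
    refine Set.ncard_le_ncard_of_injOn φ ?_ hφi.injOn (Set.toFinite _)
    intro c hc m hm
    rw [Set.mem_singleton_iff] at hm
    subst hm
    induction c using QuotientGroup.induction_on with
    | H x =>
      have h1 : t • (x : Q ⧸ TA e H) = x := hc
      rw [MulAction.Quotient.smul_coe, smul_eq_mul] at h1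
      rw [hφ, MulAction.Quotient.smul_coe, smul_eq_mul, ← map_mul, ← hφ, h1, hφ]

end

theorem aut_conj {Q : Type*} [Group Q] (τ : MulAut Q) (k : Q) : τ * MulAut.conj k * τ⁻¹ = MulAut.conj (τ k) := by
  rw [mul_inv_eq_iff_eq_mul]
  ext q
  rw [MulAut.mul_apply, MulAut.mul_apply, MulAut.conj_apply, MulAut.conj_apply, map_mul, map_mul, map_inv]

namespace EPT

variable {Q : Type*} [Group Q] {A : Subgroup Q} {Γ : Subgroup (MulAut Q)} (h : EPT A Γ)

include h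

theorem exists_stab {x : Q} (hx : x ∉ A) : ∃ σ ∈ Γ, x⁻¹ * σ x ∉ A := by
  by_contra hcon
  push Not at hcon
  have h1 := h.F1' x hx Γ le_rfl (fun σ hσ k hk => mul_mem (mul_mem hσ hk) (inv_mem hσ)) hcon
  apply hx
  apply h.selfnorm
  intro a ha
  have h2 := (h.conj a).2 ha
  rw [h1, mem_bot] at h2
  have h3 : a * x * a⁻¹ = x := by
    have := congrArg (fun σ : MulAut Q => σ x) h2
    exact this
  have h4 : x * a * x⁻¹ = a := by
    rw [mul_inv_eq_iff_eq_mul] at h3 ⊢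
    exact h3.symm
  rw [h4]
  exact ha

theorem exists_notMem : ∃ x, x ∉ A := by
  by_contra hcon
  push Not at hcon
  exact h.max.1 ((Subgroup.eq_top_iff' A).2 hcon)

/-- `a ∈ A` fixes the point `xA` iff `a ∈ A^x` -/
theorem conj_stab {a x : Q} (ha : a ∈ A) : x⁻¹ * MulAut.conj a x ∈ A ↔ a ∈ cj x A := by
  rw [MulAut.conj_apply, mem_cj]
  have e1 : x⁻¹ * (a * x * a⁻¹) = x⁻¹ * a * x * a⁻¹ := by group
  rw [e1]
  exact Subgroup.mul_mem_cancel_right A (A.inv_mem ha)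

/-- the elements of `Γ` fixing the point `xA` normalise `A ∩ A^x` -/
theorem stab_M0 {x : Q} {σ : MulAut Q} (hσ : σ ∈ Γ) (hσx : x⁻¹ * σ x ∈ A) {y : Q} (hy : y ∈ A ⊓ cj x A) :
    σ y ∈ A ⊓ cj x A := by
  refine ⟨(h.inv σ hσ y).2 (mem_inf.1 hy).1, mem_cj.2 ?_⟩
  have h1 := mem_cj.1 (mem_inf.1 hy).2
  have h2 := (h.inv σ hσ _).2 h1
  rw [map_mul, map_mul, map_inv] at h2
  have e : x⁻¹ * σ y * x = (x⁻¹ * σ x) * ((σ x)⁻¹ * σ y * σ x) * (x⁻¹ * σ x)⁻¹ := by group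
  rw [e]
  exact A.mul_mem (A.mul_mem hσx h2) (A.inv_mem hσx)

/-- **(F3)** for subgroups of `A ∩ A^x` which are invariant under the automorphisms of `Q` preserving `A ∩ A^x` -/
theorem norm_aut {x : Q} (hx : x ∉ A) {K : Subgroup Q} (hK : K ≤ A ⊓ cj x A)
    (hKn : ∀ σ : MulAut Q, (∀ y ∈ A ⊓ cj x A, σ y ∈ A ⊓ cj x A) → ∀ k ∈ K, σ k ∈ K) (hne : K ≠ ⊥) {a : Q} (ha : a ∈ A)
    (haK : ∀ k ∈ K, a * k * a⁻¹ ∈ K) : a ∈ cj x A := by
  rw [← h.conj_stab ha]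
  exact h.norm x hx K hK (fun σ hσ hσx => hKn σ fun y hy => h.stab_M0 hσ hσx hy) hne _ ((h.conj a).2 ha) haK

/-- **(F3)** for characteristic subgroups of `A ∩ A^x` -/
theorem norm_char [Finite Q] {x : Q} (hx : x ∉ A) (K : Subgroup (A ⊓ cj x A : Subgroup Q)) [hK : K.Characteristic]
    (hne : K ≠ ⊥) {a : Q} (ha : a ∈ A)
    (haK : ∀ k ∈ K.map (Subgroup.subtype _), a * k * a⁻¹ ∈ K.map (Subgroup.subtype _)) : a ∈ cj x A := by
  refine h.norm_aut hx (K := K.map (Subgroup.subtype _)) ?_ ?_ ?_ ha haK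
  · rintro _ ⟨y, _, rfl⟩
    exact y.2
  · intro σ hσ
    have hs : ∀ y : (A ⊓ cj x A : Subgroup Q), σ y ∈ A ⊓ cj x A := fun y => hσ y y.2
    let f : (A ⊓ cj x A : Subgroup Q) →* (A ⊓ cj x A : Subgroup Q) :=
      (σ.toMonoidHom.comp (Subgroup.subtype _)).codRestrict _ hs
    have hf : Function.Injective f := by
      intro y z e
      have e' : σ y = σ z := Subtype.ext_iff.1 e
      exact Subtype.ext (σ.injective e')
    let τ : MulAut (A ⊓ cj x A : Subgroup Q) := MulEquiv.ofBijective f (Finite.injective_iff_bijective.1 hf)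
    have hτ : K.map τ.toMonoidHom = K := Subgroup.characteristic_iff_map_eq.1 hK τ
    rintro _ ⟨k, hk, rfl⟩
    have h1 : τ k ∈ K := by
      rw [← hτ]
      exact ⟨k, hk, rfl⟩
    exact ⟨τ k, h1, rfl⟩
  · intro e
    rw [Subgroup.map_eq_bot_iff_of_injective _ (Subgroup.subtype_injective _)] at e
    exact hne e

/-- A subgroup `R ≠ 1` consisting of all the `r`-elements of `A ∩ A^x` is a Sylow subgroup of `A`. -/
theorem sylow [Finite Q] {x : Q} (hx : x ∉ A) {r : ℕ} (hr : r.Prime) {R : Subgroup Q}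
    (hR : ∀ y, y ∈ R ↔ y ∈ A ⊓ cj x A ∧ ∃ k : ℕ, y ^ (r ^ k) = 1) (hne : R ≠ ⊥) {P : Subgroup Q} (hP : P ≤ A)
    (hPp : IsPGroup r P) (hRP : R ≤ P) : P = R := by
  by_contra hcon
  obtain ⟨y, hyP, hyR, hyn⟩ := exists_norm_lt hr hPp hRP hcon
  apply hyR
  have h1 : y ∈ cj x A := by
    refine h.norm_aut hx (K := R) (fun k hk => ((hR k).1 hk).1) ?_ hne (hP hyP) hyn
    intro σ hσ k hk
    obtain ⟨h1, l, hl⟩ := (hR k).1 hk
    exact (hR _).2 ⟨hσ k h1, l, by rw [← map_pow, hl, map_one]⟩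
  obtain ⟨k, hk⟩ := hPp ⟨y, hyP⟩
  exact (hR y).2 ⟨⟨hP hyP, h1⟩, k, Subtype.ext_iff.1 hk⟩

/-- `A = K (A ∩ A^x)` for `K ≠ 1` invariant under `Γ` -/
theorem fac {K : Subgroup Q} (hK : K ≤ A) (hKn : ∀ σ ∈ Γ, ∀ k ∈ K, σ k ∈ K) (hne : K ≠ ⊥) {x : Q} (hx : x ∉ A)
    {σ : MulAut Q} (hσ : σ ∈ Γ) : ∃ k ∈ K, ∃ τ ∈ Γ, x⁻¹ * τ x ∈ A ∧ σ = MulAut.conj k * τ := by
  let L : Subgroup (MulAut Q) :=
    { carrier := {σ | σ ∈ Γ ∧ ∃ k ∈ K, ∃ τ ∈ Γ, x⁻¹ * τ x ∈ A ∧ σ = MulAut.conj k * τ}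
      one_mem' := ⟨one_mem _, 1, one_mem _, 1, one_mem _, by
        rw [MulAut.one_apply, inv_mul_cancel]; exact one_mem _, by rw [map_one, one_mul]⟩
      mul_mem' := by
        rintro σ₁ σ₂ ⟨h1, k₁, hk₁, τ₁, hτ₁, hx₁, e₁⟩ ⟨h2, k₂, hk₂, τ₂, hτ₂, hx₂, e₂⟩
        refine ⟨mul_mem h1 h2, k₁ * τ₁ k₂, mul_mem hk₁ (hKn _ hτ₁ _ hk₂), τ₁ * τ₂, mul_mem hτ₁ hτ₂, ?_, ?_⟩
        · rw [MulAut.mul_apply]
          have e : x⁻¹ * τ₁ (τ₂ x) = (x⁻¹ * τ₁ x) * τ₁ (x⁻¹ * τ₂ x) := by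
            rw [map_mul, map_inv]; group
          rw [e]
          exact A.mul_mem hx₁ ((h.inv _ hτ₁ _).2 hx₂)
        · rw [e₁, e₂, map_mul, ← aut_conj]
          group
      inv_mem' := by
        rintro σ ⟨h1, k, hk, τ, hτ, hx₁, e⟩
        refine ⟨inv_mem h1, τ⁻¹ k⁻¹, hKn _ (inv_mem hτ) _ (inv_mem hk), τ⁻¹, inv_mem hτ, ?_, ?_⟩
        · have h3 := (h.inv _ (Γ.inv_mem hτ) _).2 (A.inv_mem hx₁)
          have e4 : τ⁻¹ (x⁻¹ * τ x)⁻¹ = x⁻¹ * τ⁻¹ x := by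
            rw [mul_inv_rev, map_mul, map_inv, MulAut.inv_apply_self, inv_inv]
          rwa [e4] at h3
        · rw [e, ← aut_conj, map_inv MulAut.conj k]
          group }
  have hKL : ∀ k ∈ K, MulAut.conj k ∈ L := fun k hk =>
    ⟨(h.conj k).2 (hK hk), k, hk, 1, one_mem _, by
      rw [MulAut.one_apply, inv_mul_cancel]; exact one_mem _, by rw [mul_one]⟩
  rcases h.two x hx L (fun σ hσ => hσ.1) (fun σ hσ hσx => ⟨hσ, 1, one_mem _, σ, hσ, hσx, by rw [map_one, one_mul]⟩)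
    with h1 | h1
  · rw [← h1] at hσ
    exact hσ.2
  · exfalso
    apply hne
    apply h.F1 x hx K hK hKn
    intro k hk
    exact (h.conj_stab (hK hk)).1 (h1 _ (hKL k hk))

/-- `A = K (A ∩ A^x)` for `K ≠ 1` invariant under `Γ` -/
theorem fac_A {K : Subgroup Q} (hK : K ≤ A) (hKn : ∀ σ ∈ Γ, ∀ k ∈ K, σ k ∈ K) (hne : K ≠ ⊥) {x : Q} (hx : x ∉ A)
    {a : Q} (ha : a ∈ A) : ∃ k ∈ K, ∃ m ∈ A ⊓ cj x A, a = k * m := by
  obtain ⟨k, hk, τ, hτ, hτx, e⟩ := h.fac hK hKn hne hx ((h.conj a).2 ha)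
  have hm : k⁻¹ * a ∈ A := A.mul_mem (A.inv_mem (hK hk)) ha
  refine ⟨k, hk, k⁻¹ * a, ⟨hm, ?_⟩, by rw [mul_inv_cancel_left]⟩
  apply (h.conj_stab hm).1
  have e2 : MulAut.conj (k⁻¹ * a) = τ := by rw [map_mul, e, map_inv, inv_mul_cancel_left]
  rw [e2]
  exact hτx

/-! ### root elements -/

omit h in
/-- `z` is free: `σ(z) z⁻¹`-differences are not in `A` -/
def RLFree (A : Subgroup Q) (Γ : Subgroup (MulAut Q)) (z : Q) : Prop := z ∉ A ∧ ∀ σ ∈ Γ, z⁻¹ * σ z ∈ A → σ z = z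

omit h in
/-- `z`, `z'` are joined -/
def RLEdge (Γ : Subgroup (MulAut Q)) (z z' : Q) : Prop :=
  ∃ S : Subgroup (MulAut Q), S ≤ Γ ∧ S ≠ Γ ∧ (∀ σ ∈ Γ, σ z = z → σ ∈ S) ∧ ∀ σ ∈ Γ, σ z' = z' → σ ∈ S

theorem RLEdge.of_fix {z z' : Q} (hz' : RLFree A Γ z') (hc : ∀ σ ∈ Γ, σ z = z → σ z' = z') : RLEdge Γ z z' := by
  refine ⟨{ carrier := {σ | σ ∈ Γ ∧ σ z' = z'}
            one_mem' := ⟨one_mem _, rfl⟩
            mul_mem' := fun {a b} ha hb => ⟨mul_mem ha.1 hb.1, by rw [MulAut.mul_apply, hb.2, ha.2]⟩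
            inv_mem' := fun {a} ha => ⟨inv_mem ha.1, by
              conv_lhs => rw [← ha.2]
              rw [MulAut.inv_apply_self]⟩ }, fun σ hσ => hσ.1, ?_, fun σ hσ hσz => ⟨hσ, hc σ hσ hσz⟩,
            fun σ hσ hσz => ⟨hσ, hσz⟩⟩
  intro e
  obtain ⟨σ, hσ, h1⟩ := h.exists_stab hz'.1
  apply h1
  have h2 := hσ
  rw [← e] at h2
  rw [h2.2, inv_mul_cancel]
  exact one_mem _

theorem RLEdge.fix {z z' : Q} (hz : RLFree A Γ z) (hz' : RLFree A Γ z') (he : RLEdge Γ z z') {σ : MulAut Q}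
    (hσ : σ ∈ Γ) : σ z = z ↔ σ z' = z' := by
  obtain ⟨S, h1, h2, h3, h4⟩ := he
  have key : ∀ w, RLFree A Γ w → (∀ σ ∈ Γ, σ w = w → σ ∈ S) → ∀ σ ∈ Γ, σ w = w ↔ σ ∈ S := by
    intro w hw h5 σ hσ
    refine ⟨h5 σ hσ, fun hS => ?_⟩
    rcases h.two w hw.1 S h1 (fun τ hτ hτw => h5 τ hτ (hw.2 τ hτ hτw)) with h6 | h6
    · exact absurd h6 h2
    · exact hw.2 σ hσ (h6 σ hS)
  rw [key z hz h3 σ hσ, key z' hz' h4 σ hσ]

/-- **(RL criterion)** a connected set `Z` of free elements: some `1 ≠ a ∈ A` centralises `Z`. -/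
theorem RL_criterion {Z : Set Q} {z₀ : Q} (hz₀ : z₀ ∈ Z) (hZ : ∀ z ∈ Z, RLFree A Γ z)
    (hconn : ∀ z ∈ Z, Relation.ReflTransGen (fun a b => a ∈ Z ∧ b ∈ Z ∧ (RLEdge Γ a b ∨ RLEdge Γ b a)) z₀ z) :
    ∃ a ∈ A ⊓ cj z₀ A, a ≠ 1 ∧ ∀ z ∈ Z, a * z = z * a := by
  have h1 : ∀ z ∈ Z, ∀ σ ∈ Γ, σ z₀ = z₀ ↔ σ z = z := by
    intro z hz
    have h2 := hconn z hz
    intro σ hσ
    induction h2 with
    | refl => rfl
    | tail _ h3 ih =>
      obtain ⟨h4, h5, h6⟩ := h3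
      rw [ih h4]
      rcases h6 with h6 | h6
      · exact RLEdge.fix h (hZ _ h4) (hZ _ h5) h6 hσ
      · exact (RLEdge.fix h (hZ _ h5) (hZ _ h4) h6 hσ).symm
  obtain ⟨a, ha⟩ := Subgroup.ne_bot_iff_exists_ne_one.1 (h.M0 z₀ (hZ z₀ hz₀).1)
  refine ⟨a, a.2, fun e => ha (Subtype.ext e), ?_⟩
  intro z hz
  have haA : (a : Q) ∈ A := (mem_inf.1 a.2).1
  have h7 : MulAut.conj (a : Q) z₀ = z₀ :=
    (hZ z₀ hz₀).2 _ ((h.conj _).2 haA) ((h.conj_stab haA).2 (mem_inf.1 a.2).2)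
  have h8 := (h1 z hz _ ((h.conj _).2 haA)).1 h7
  rw [MulAut.conj_apply, mul_inv_eq_iff_eq_mul] at h8
  exact h8

/-- **(CL)** -/
theorem CL {Y : Subgroup Q} {C : Set Q} (hCA : ∀ c ∈ C, c ∈ A) (hYA : Y ≤ A)
    (hyp : ∀ x ∉ A, Y ≤ cj x A → ∀ c ∈ C, c ∈ cj x A) {t : Q} (ht : ∀ y ∈ Y, t * y * t⁻¹ ∈ Y) {c : Q} (hc : c ∈ C) :
    t * c * t⁻¹ ∈ A := EP.CL hCA hYA hyp ht hc

end EPT

/-! ### wrappers for S3499 and S5745 -/

/-- from the hypotheses of S3499 (and `G/T` solvable) -/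
theorem ept_of_preprimitive {G : Type*} [Group G] [Finite G] {Ω : Type*} [Fintype Ω] [MulAction G Ω] [FaithfulSMul G Ω]
    (T : Subgroup G) [T.Normal] (hT : IsSimpleGroup T) (hTc : ¬ IsMulCommutative T)
    (hC : Subgroup.centralizer (T : Set G) = ⊥) (hprim : MulAction.IsPreprimitive G Ω)
    (hH : ∀ α : Ω, MulAction.stabilizer G α ≠ ⊥)
    (hep : ∀ (α : Ω) (ω : Ω), MulAction.IsPreprimitive (MulAction.stabilizer G α)
      (MulAction.orbit (MulAction.stabilizer G α) ω))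
    (hsol : Group.IsSolvable (G ⧸ T)) {Q : Type*} [Group Q] (e : T ≃* Q) (α : Ω) :
    EPT (TA e (MulAction.stabilizer G α)) ((MulAction.stabilizer G α).map (toAut e)) := by
  refine ((EPA.of_preprimitive hprim hH hep).toEP α).toEPT e hT ?_ hC hsol
  intro hcomm
  exact hTc ⟨⟨fun a b => Subtype.ext (hcomm a a.2 b b.2)⟩⟩

/-- from the hypotheses of S5745 -/
theorem ept_of_isCoatom {G : Type*} [Group G] [Finite G] [IsSimpleGroup G] {Ω : Type*} [Fintype Ω] [MulAction G Ω]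
    [FaithfulSMul G Ω] (hcomm : ¬ ∀ a b : G, a * b = b * a) (hprim : IsPreprimitive G Ω)
    (hH : ∀ α : Ω, stabilizer G α ≠ ⊥)
    (hep : ∀ (α : Ω) (x : G), x ∉ stabilizer G α → IsCoatom ((stabilizer G α ⊓
      (stabilizer G α).map (MulAut.conj x).toMonoidHom).subgroupOf (stabilizer G α))) (α : Ω) :
    EPT (stabilizer G α) ((stabilizer G α).map (MulAut.conj : G →* MulAut G)) := by
  have hs : IsSimpleGroup (⊤ : Subgroup G) := (Subgroup.topEquiv (G := G)).isSimpleGroup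
  have hcent : Subgroup.centralizer ((⊤ : Subgroup G) : Set G) = ⊥ := by
    have h1 : Subgroup.centralizer ((⊤ : Subgroup G) : Set G) = center G := by
      rw [Subgroup.coe_top, Subgroup.centralizer_univ]
    rw [h1]
    rcases (inferInstance : (center G).Normal).eq_bot_or_eq_top with h2 | h2
    · exact h2
    · exfalso
      apply hcomm
      intro a b
      have : b ∈ center G := by rw [h2]; exact mem_top _
      exact (mem_center_iff.1 this a)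
  have hsol : Group.IsSolvable (G ⧸ (⊤ : Subgroup G)) := by
    have : Subsingleton (G ⧸ (⊤ : Subgroup G)) := QuotientGroup.subsingleton_quotient_top
    infer_instance
  have h1 := ((EPA.of_isCoatom hprim hH hep).toEP α).toEPT (T := ⊤) (Subgroup.topEquiv (G := G)) hs
    (fun h2 => hcomm fun a b => h2 a (mem_top _) b (mem_top _)) hcent hsol
  have e1 : TA (Subgroup.topEquiv (G := G)) (stabilizer G α) = stabilizer G α := by
    ext q
    rfl
  have e2 : toAut (Subgroup.topEquiv (G := G)) = (MulAut.conj : G →* MulAut G) := by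
    ext g q
    have := toG_toAut (Subgroup.topEquiv (G := G)) g q
    exact this
  rw [e1, e2] at h1
  exact h1

end Cfsg.Agent.H284
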