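import Cfsg.Agent.H284.EP.TForm
import Cfsg.Agent.S0033

/-!
# Extremely primitive groups: the prime Sylow criterion (helper284; idea of helper67)
-/

set_option autoImplicit false
set_option linter.unusedSectionVars false

namespace Cfsg.Agent.H284

open MulAction Subgroup

/-- A subgroup of prime order acting without fixed points: the group is nilpotent of order `1` modulo the prime. -/
theorem fpf_sub {Q : Type*} [Group Q] [Finite Q] {s : ℕ} (hs : s.Prime) {Y L : Subgroup Q} (hY : Nat.card Y = s)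
    (hLn : ∀ y ∈ Y, ∀ a ∈ L, y * a * y⁻¹ ∈ L) (hfix : ∀ a ∈ L, (∀ y ∈ Y, y * a = a * y) → a = 1) :
    (L ≠ ⊥ → Group.IsNilpotent L) ∧ Nat.card L ≡ 1 [MOD s] := by
  have := Fact.mk hs
  constructor
  · intro hL
    have hnt : Nontrivial Y := by
      rw [← Finite.one_lt_card_iff_nontrivial, hY]
      exact hs.one_lt
    obtain ⟨y, hy⟩ := exists_ne (1 : Y)
    have hgen : ∀ z ∈ Y, z ∈ zpowers (y : Q) := by
      intro z hz
      have h1 := zpowers_eq_top_of_prime_card hY hy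
      have h2 : (⟨z, hz⟩ : Y) ∈ zpowers y := by rw [h1]; exact mem_top _
      obtain ⟨k, hk⟩ := mem_zpowers_iff.1 h2
      exact mem_zpowers_iff.2 ⟨k, Subtype.ext_iff.1 hk⟩
    have hle : Y ≤ Subgroup.normalizer (L : Set Q) := by
      intro m hm
      rw [Subgroup.mem_normalizer_iff]
      intro n
      constructor
      · exact hLn m hm n
      · intro hn
        have := hLn m⁻¹ (inv_mem hm) _ hn
        have e : m⁻¹ * (m * n * m⁻¹) * m⁻¹⁻¹ = n := by group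
        rwa [e] at this
    let φ : Y →* MulAut L := (L.normalizerMonoidHom).comp (inclusion hle)
    have hφ : ∀ (m : Y) (n : L), ((φ m n : L) : Q) = m * n * (m : Q)⁻¹ := fun m n => rfl
    have hfpf : MonoidHom.FixedPointFree ((φ y : L ≃* L) : L →* L) := by
      intro a ha
      apply Subtype.ext
      apply hfix a a.2
      intro z hz
      have h1 : (y : Q) * a = a * y := by
        have h2 := Subtype.ext_iff.1 ha
        have h3 := hφ y a
        have h4 : (y : Q) * a * (y : Q)⁻¹ = a := by rw [← h3]; exact h2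
        exact mul_inv_eq_iff_eq_mul.1 h4
      obtain ⟨k, rfl⟩ := mem_zpowers_iff.1 (hgen z hz)
      exact ((show Commute (y : Q) a from h1).zpow_left k)
    refine Cfsg.Agent.S0033.result (φ y) hfpf s hs ?_
    apply orderOf_eq_prime
    · rw [← map_pow]
      have : y ^ s = 1 := by rw [← hY]; exact pow_card_eq_one'
      rw [this, map_one]
    · intro e
      apply hL
      rw [Subgroup.eq_bot_iff_forall]
      intro a ha
      apply hfix a ha
      intro z hz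
      obtain ⟨k, rfl⟩ := mem_zpowers_iff.1 (hgen z hz)
      have h3 := hφ y ⟨a, ha⟩
      rw [e, MulAut.one_apply] at h3
      exact ((show Commute (y : Q) a from (mul_inv_eq_iff_eq_mul.1 h3.symm)).zpow_left k)
  · let _ : MulAction Y L :=
      { smul := fun y a => ⟨y * a * (y : Q)⁻¹, hLn y y.2 a a.2⟩
        one_smul := fun a => Subtype.ext (by
          show (1 : Q) * a * (1 : Q)⁻¹ = a
          group)
        mul_smul := fun y z a => Subtype.ext (by
          show ((y : Q) * z) * a * ((y : Q) * z)⁻¹ = y * (z * a * (z : Q)⁻¹) * (y : Q)⁻¹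
          group) }
    have hYp : IsPGroup s Y := IsPGroup.of_card (n := 1) (by rw [hY, pow_one])
    have h1 := hYp.card_modEq_card_fixedPoints L
    have h2 : Nat.card (fixedPoints Y L) = 1 := by
      rw [Nat.card_eq_one_iff_unique]
      have key : ∀ a : L, a ∈ fixedPoints Y L → a = 1 := by
        intro a ha
        apply Subtype.ext
        apply hfix a a.2
        intro y hy
        have h3 := Subtype.ext_iff.1 (ha ⟨y, hy⟩)
        exact mul_inv_eq_iff_eq_mul.1 h3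
      refine ⟨⟨?_⟩, ⟨1, ?_⟩⟩
      · rintro ⟨a, ha⟩ ⟨b, hb⟩
        apply Subtype.ext
        show a = b
        rw [key a ha, key b hb]
      · intro y
        apply Subtype.ext
        show (y : Q) * 1 * (y : Q)⁻¹ = 1
        group
    rw [h2] at h1
    exact h1

/-- in a group with a nilpotent normal `s`-complement the `l`-elements form a subgroup -/
theorem exists_lpart {Q : Type*} [Group Q] [Finite Q] {L : Subgroup Q} (hL : Group.IsNilpotent L) {l : ℕ} (hl : l.Prime) :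
    ∃ R : Subgroup Q, (∀ x, x ∈ R ↔ x ∈ L ∧ ∃ k : ℕ, x ^ (l ^ k) = 1) ∧ IsPGroup l R := by
  have := Fact.mk hl
  obtain ⟨P⟩ : Nonempty (Sylow l L) := inferInstance
  have hPn : (P : Subgroup L).Normal := Sylow.normal_of_normalizerCondition Group.normalizerCondition_of_isNilpotent P
  refine ⟨(P : Subgroup L).map L.subtype, ?_, P.isPGroup'.map _⟩
  intro x
  constructor
  · rintro ⟨y, hy, rfl⟩
    refine ⟨y.2, ?_⟩
    obtain ⟨k, hk⟩ := P.isPGroup' ⟨y, hy⟩
    refine ⟨k, ?_⟩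
    have h1 : y ^ (l ^ k) = 1 := Subtype.ext_iff.1 hk
    rw [← map_pow, h1, map_one]
  · rintro ⟨hx, k, hk⟩
    refine ⟨⟨x, hx⟩, ?_, rfl⟩
    have h1 : IsPGroup l (zpowers (⟨x, hx⟩ : L)) := by
      have h2 : (⟨x, hx⟩ : L) ^ (l ^ k) = 1 := Subtype.ext hk
      rw [IsPGroup.iff_orderOf]
      intro g
      have h3 : orderOf (⟨x, hx⟩ : L) ∣ l ^ k := orderOf_dvd_of_pow_eq_one h2
      have h4 : orderOf g ∣ orderOf (⟨x, hx⟩ : L) := by
        have := orderOf_dvd_natCard g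
        rwa [Nat.card_zpowers] at this
      obtain ⟨j, _, hj⟩ := (Nat.dvd_prime_pow hl).1 (h4.trans h3)
      exact ⟨j, hj⟩
    obtain ⟨P', hP'⟩ := h1.exists_le_sylow
    have hu := Sylow.unique_of_normal P hPn
    have h5 : P' = P := (hu.eq_default P').trans (hu.eq_default P).symm
    rw [h5] at hP'
    exact hP' (mem_zpowers _)

namespace EPT

variable {Q : Type*} [Group Q] [Finite Q] {A : Subgroup Q} {Γ : Subgroup (MulAut Q)} (h : EPT A Γ)

include h

/-- the normaliser part of **(PS)** -/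
theorem PS_norm (hF : ∀ K : Subgroup Q, K ≤ A → (∀ σ ∈ Γ, ∀ k ∈ K, σ k ∈ K) → (∀ a ∈ K, ∀ b ∈ K, a * b = b * a) → K = ⊥)
    {s : ℕ} (hs : s.Prime) {Y : Subgroup Q} (hYA : Y ≤ A) (hY : Nat.card Y = s)
    (hYc : ∀ a ∈ A, (∀ y ∈ Y, a * y = y * a) → a ∈ Y)
    (hfrob : ∀ l, l.Prime → l ∣ Nat.card A → l ≠ s → ¬ l ^ (Nat.card A).factorization l ≡ 1 [MOD s])
    {c : Q} (hYc' : Y ≤ cj c A) (hcA : c ∉ A) :
    ∃ u ∈ A ⊓ cj c A, (∀ y ∈ Y, u * y * u⁻¹ ∈ Y) ∧ u ∉ Y := by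
  have := Fact.mk hs
  by_contra hcon
  have hno : ∀ u ∈ A ⊓ cj c A, (∀ y ∈ Y, u * y * u⁻¹ ∈ Y) → u ∈ Y := by
    intro u hu hun
    by_contra huY
    exact hcon ⟨u, hu, hun, huY⟩
  set M0 := A ⊓ cj c A with hM0
  have hYM : Y ≤ M0 := le_inf hYA hYc'
  have hYp : IsPGroup s Y := IsPGroup.of_card (n := 1) (by rw [hY, pow_one])
  have hYab : ∀ a ∈ Y, ∀ b ∈ Y, a * b = b * a := by
    have := isCyclic_of_prime_card hY
    have hc : ∀ a b : Y, a * b = b * a := fun a b => (IsCyclic.commGroup (α := Y)).mul_comm a b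
    exact fun a ha b hb => Subtype.ext_iff.1 (hc ⟨a, ha⟩ ⟨b, hb⟩)
  have hYM' : IsPGroup s (Y.subgroupOf M0) := hYp.of_equiv (Subgroup.subgroupOfEquivOfLe hYM).symm
  obtain ⟨P, hP⟩ := hYM'.exists_le_sylow
  have hPY : (P : Subgroup M0).map M0.subtype = Y := by
    by_contra hne
    obtain ⟨y, hy1, hy2, hy3⟩ := exists_norm_lt hs (P.isPGroup'.map M0.subtype) (R := Y) (by
      intro y hy
      exact ⟨⟨y, hYM hy⟩, hP hy, rfl⟩) hne
    apply hy2
    obtain ⟨z, _, rfl⟩ := hy1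
    exact hno _ z.2 hy3
  have hPmem : ∀ y : M0, y ∈ (P : Subgroup M0) ↔ (y : Q) ∈ Y := by
    intro y
    constructor
    · intro hy
      rw [← hPY]
      exact ⟨y, hy, rfl⟩
    · intro hy
      rw [← hPY] at hy
      obtain ⟨z, hz, e⟩ := hy
      have : z = y := Subtype.ext e
      rwa [← this]
  have hPc : Subgroup.normalizer ((P : Subgroup M0) : Set M0) ≤ Subgroup.centralizer ((P : Subgroup M0) : Set M0) := by
    intro y hy
    rw [Subgroup.mem_centralizer_iff]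
    rw [Subgroup.mem_normalizer_iff] at hy
    have h1 : (y : Q) ∈ Y := by
      apply hno _ y.2
      intro k hk
      exact (hPmem _).1 ((hy ⟨k, hYM hk⟩).1 ((hPmem _).2 hk))
    intro z hz
    apply Subtype.ext
    exact hYab _ ((hPmem z).1 hz) _ h1
  obtain ⟨L', hL'n, hcomp, hnd, hlL'⟩ : ∃ L' : Subgroup M0, L'.Normal ∧ Subgroup.IsComplement' L' (P : Subgroup M0) ∧
      ¬ s ∣ Nat.card L' ∧ ∀ x : M0, ∀ l : ℕ, l.Prime → l ≠ s → (∃ k : ℕ, x ^ (l ^ k) = 1) → x ∈ L' := by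
    refine ⟨(MonoidHom.transferSylow P hPc).ker, MonoidHom.normal_ker _,
      MonoidHom.ker_transferSylow_isComplement' P hPc, MonoidHom.not_dvd_card_ker_transferSylow P hPc, ?_⟩
    rintro x l hl hls ⟨k, hk⟩
    rw [MonoidHom.mem_ker]
    have h1 : orderOf (MonoidHom.transferSylow P hPc x) ∣ l ^ k := by
      apply orderOf_dvd_of_pow_eq_one
      rw [← map_pow, hk, map_one]
    obtain ⟨j, hj⟩ := P.isPGroup' (MonoidHom.transferSylow P hPc x)
    have h2 : orderOf (MonoidHom.transferSylow P hPc x) ∣ s ^ j := orderOf_dvd_of_pow_eq_one hj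
    have h3 : Nat.Coprime (l ^ k) (s ^ j) := Nat.Coprime.pow _ _ ((Nat.coprime_primes hl hs).2 hls)
    have h4 : orderOf (MonoidHom.transferSylow P hPc x) ∣ 1 := by
      rw [← h3]
      exact Nat.dvd_gcd h1 h2
    exact orderOf_eq_one_iff.1 (Nat.dvd_one.1 h4)
  by_cases hbot : L' = ⊥
  · -- `M0 = Y` is abelian
    rw [hbot, Subgroup.isComplement'_bot_left] at hcomp
    have hM0Y : M0 ≤ Y := by
      intro m hm
      have : (⟨m, hm⟩ : M0) ∈ (P : Subgroup M0) := by rw [hcomp]; exact mem_top _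
      exact (hPmem _).1 this
    obtain ⟨K, h1, h2, h3, h4⟩ := h.abM0 c hcA (fun a ha b hb => hYab a (hM0Y ha) b (hM0Y hb))
    exact h3 (hF K h1 h2 h4)
  · set L := L'.map M0.subtype with hL
    have hLM : L ≤ M0 := by
      rintro _ ⟨y, _, rfl⟩
      exact y.2
    have hLn : ∀ m ∈ M0, ∀ a ∈ L, m * a * m⁻¹ ∈ L := by
      rintro m hm _ ⟨a, ha, rfl⟩
      exact ⟨⟨m, hm⟩ * a * ⟨m, hm⟩⁻¹, hL'n.conj_mem a ha _, rfl⟩
    have hLY : ∀ a ∈ L, a ∈ Y → a = 1 := by
      rintro _ ⟨a, ha, rfl⟩ haY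
      have h1 : a ∈ (P : Subgroup M0) := (hPmem a).2 haY
      have h2 := hcomp.disjoint
      rw [Subgroup.disjoint_def] at h2
      rw [h2 ha h1, map_one]
    have hLne : L ≠ ⊥ := by
      rw [hL, Ne, Subgroup.map_eq_bot_iff_of_injective _ M0.subtype_injective]
      exact hbot
    have hfixL : ∀ a ∈ L, (∀ y ∈ Y, y * a = a * y) → a = 1 := by
      intro a ha hya
      apply hLY a ha
      apply hYc a (mem_inf.1 (hLM ha)).1
      intro y hy
      exact (hya y hy).symm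
    have hnil : Group.IsNilpotent L := (fpf_sub (L := L) hs hY (fun y hy => hLn y (hYM hy)) hfixL).1 hLne
    have hcardL : Nat.card L ≠ 1 := fun e => hLne (Subgroup.card_eq_one.1 e)
    obtain ⟨l, hl, hld⟩ := Nat.exists_prime_and_dvd hcardL
    have := Fact.mk hl
    have hcLL' : Nat.card L = Nat.card L' := (Nat.card_congr (L'.equivMapOfInjective _ M0.subtype_injective).toEquiv).symm
    have hls : l ≠ s := by
      rintro rfl
      rw [hcLL'] at hld
      exact hnd hld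
    -- `l`-elements of `M0` are in `L`
    have hlL : ∀ x ∈ M0, (∃ k : ℕ, x ^ (l ^ k) = 1) → x ∈ L := by
      rintro x hx ⟨k, hk⟩
      exact ⟨⟨x, hx⟩, hlL' _ l hl hls ⟨k, Subtype.ext hk⟩, rfl⟩
    obtain ⟨R, hR, hRp⟩ := exists_lpart hnil hl
    have hR' : ∀ x, x ∈ R ↔ x ∈ M0 ∧ ∃ k : ℕ, x ^ (l ^ k) = 1 := by
      intro x
      rw [hR]
      exact ⟨fun hx => ⟨hLM hx.1, hx.2⟩, fun hx => ⟨hlL x hx.1 hx.2, hx.2⟩⟩
    have hRne : R ≠ ⊥ := by
      intro e
      obtain ⟨d, hd⟩ := exists_prime_orderOf_dvd_card' l hld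
      have h2 : (d : Q) ∈ R := (hR _).2 ⟨d.2, 1, by
        rw [pow_one]
        have := pow_orderOf_eq_one d
        rw [hd] at this
        exact Subtype.ext_iff.1 this⟩
      rw [e, mem_bot] at h2
      have h3 : d = 1 := Subtype.ext h2
      rw [h3, orderOf_one] at hd
      exact hl.one_lt.ne hd
    have hRA : R ≤ A := fun x hx => (mem_inf.1 ((hR' x).1 hx).1).1
    -- `R` is a Sylow subgroup of `A`
    have hRA' : IsPGroup l (R.subgroupOf A) := hRp.of_equiv (Subgroup.subgroupOfEquivOfLe hRA).symm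
    obtain ⟨P', hP'⟩ := hRA'.exists_le_sylow
    have hPR : (P' : Subgroup A).map A.subtype = R := by
      apply h.sylow hcA hl hR' hRne
      · rintro _ ⟨y, _, rfl⟩
        exact y.2
      · exact P'.isPGroup'.map _
      · intro y hy
        exact ⟨⟨y, hRA hy⟩, hP' hy, rfl⟩
    have hcardR : Nat.card R = l ^ (Nat.card A).factorization l := by
      rw [← hPR, ← P'.card_eq_multiplicity]
      exact (Nat.card_congr ((P' : Subgroup A).equivMapOfInjective _ A.subtype_injective).toEquiv).symm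
    have hfix := (fpf_sub hs hY (L := R) (by
      intro y hy a ha
      rw [hR'] at ha ⊢
      obtain ⟨ha1, k, hk⟩ := ha
      refine ⟨M0.mul_mem (M0.mul_mem (hYM hy) ha1) (M0.inv_mem (hYM hy)), k, ?_⟩
      rw [conj_pow, hk, mul_one, mul_inv_cancel]) (by
      intro a ha hya
      apply hLY a ((hR a).1 ha).1
      apply hYc a (hRA ha)
      intro y hy
      exact (hya y hy).symm)).2
    refine hfrob l hl ?_ hls ?_
    · exact hld.trans (Subgroup.card_dvd_of_le (hLM.trans inf_le_left))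
    · rw [← hcardR]
      exact hfix

/-- **(PS)** the prime Sylow criterion -/
theorem PS (hF : ∀ K : Subgroup Q, K ≤ A → (∀ σ ∈ Γ, ∀ k ∈ K, σ k ∈ K) → (∀ a ∈ K, ∀ b ∈ K, a * b = b * a) → K = ⊥)
    {s : ℕ} (hs : s.Prime) {Y : Subgroup Q} (hYA : Y ≤ A) (hY : Nat.card Y = s)
    (hYc : ∀ a ∈ A, (∀ y ∈ Y, a * y = y * a) → a ∈ Y)
    (hfrob : ∀ l, l.Prime → l ∣ Nat.card A → l ≠ s → ¬ l ^ (Nat.card A).factorization l ≡ 1 [MOD s])
    {w : Q} (hwY : ∀ y ∈ Y, w * y * w⁻¹ ∈ Y) (hws : ¬ s ∣ orderOf w)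
    (hN : ∀ a ∈ A, (∀ y ∈ Y, a * y * a⁻¹ ∈ Y) → ∃ y ∈ Y, ∃ k : ℤ, a = y * w ^ k)
    {c : Q} (hc : ∀ y ∈ Y, c * y = y * c) (hcA : c ∉ A) :
    ∃ l, l.Prime ∧ l ∣ orderOf w ∧ ∃ y ∈ Y, (c * y) * w ^ (orderOf w / l) = w ^ (orderOf w / l) * (c * y) := by
  have := Fact.mk hs
  have hYab : ∀ a ∈ Y, ∀ b ∈ Y, a * b = b * a := by
    have := isCyclic_of_prime_card hY
    have hc : ∀ a b : Y, a * b = b * a := fun a b => (IsCyclic.commGroup (α := Y)).mul_comm a b
    exact fun a ha b hb => Subtype.ext_iff.1 (hc ⟨a, ha⟩ ⟨b, hb⟩)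
  have hYc' : Y ≤ cj c A := by
    intro y hy
    rw [mem_cj, mul_assoc, ← hc y hy, inv_mul_cancel_left]
    exact hYA hy
  obtain ⟨u, hu, hun, huY⟩ := h.PS_norm hF hs hYA hY hYc hfrob hYc' hcA
  obtain ⟨y₁, hy₁, k, rfl⟩ := hN u (mem_inf.1 hu).1 hun
  have hYM : Y ≤ A ⊓ cj c A := le_inf hYA hYc'
  have hwk : w ^ k ∈ A ⊓ cj c A := (Subgroup.mul_mem_cancel_left _ (hYM hy₁)).1 hu
  have hwkY : w ^ k ∉ Y := fun e => huY (Y.mul_mem hy₁ e)
  set e := orderOf w with he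
  have he0 : 0 < e := orderOf_pos w
  -- the prime `l`
  obtain ⟨g, m, hgm, hg, hm1⟩ : ∃ g m : ℕ, e = g * m ∧ w ^ g ∈ zpowers (w ^ k) ∧ m ≠ 1 := by
    refine ⟨Int.gcd k e, e / Int.gcd k e, ?_, ?_, ?_⟩
    · rw [Nat.mul_div_cancel' ?_]
      have := Int.gcd_dvd_right k (e : ℤ)
      exact Int.natCast_dvd_natCast.1 this
    · rw [mem_zpowers_iff]
      refine ⟨Int.gcdA k e, ?_⟩
      have h1 := Int.gcd_eq_gcd_ab k (e : ℤ)
      have h2 : w ^ ((Int.gcd k e : ℕ) : ℤ) = (w ^ k) ^ (Int.gcdA k e) := by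
        rw [h1, zpow_add, zpow_mul, zpow_mul, zpow_natCast, pow_orderOf_eq_one, one_zpow, mul_one]
      rw [← h2, zpow_natCast]
    · intro h1
      apply hwkY
      have h2 : (e : ℤ) ∣ k := by
        have h3 : Int.gcd k e ∣ e := Int.natCast_dvd_natCast.1 (Int.gcd_dvd_right k (e : ℤ))
        have h4 : e = Int.gcd k e := by
          have := Nat.div_mul_cancel h3
          rw [h1, one_mul] at this
          exact this.symm
        rw [h4]
        exact Int.gcd_dvd_left k (e : ℤ)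
      rw [he, orderOf_dvd_iff_zpow_eq_one] at h2
      rw [h2]
      exact Y.one_mem
  obtain ⟨l, hl, hlm⟩ := Nat.exists_prime_and_dvd hm1
  obtain ⟨m', rfl⟩ := hlm
  have hle : l ∣ e := by rw [hgm]; exact ⟨g * m', by ring⟩
  have hel : e / l = g * m' := by
    rw [hgm]
    have : g * (l * m') = l * (g * m') := by ring
    rw [this, Nat.mul_div_cancel_left _ hl.pos]
  refine ⟨l, hl, hle, ?_⟩
  set v := w ^ (e / l) with hv
  have hvM : v ∈ A ⊓ cj c A := by
    rw [hv, hel, pow_mul]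
    refine Subgroup.pow_mem _ ?_ _
    obtain ⟨j, hj⟩ := mem_zpowers_iff.1 hg
    rw [← hj]
    exact Subgroup.zpow_mem _ hwk _
  have hv1 : v ≠ 1 := by
    intro h1
    have h2 : e ∣ e / l := orderOf_dvd_of_pow_eq_one h1
    have h3 : 0 < e / l := Nat.div_pos (Nat.le_of_dvd he0 hle) hl.pos
    have h4 := Nat.le_of_dvd h3 h2
    have h5 := Nat.div_lt_self he0 hl.one_lt
    omega
  have hvY : v ∉ Y := by
    intro h1
    apply hv1
    have h2 : orderOf v ∣ s := by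
      rw [← hY]
      have h3 : orderOf v = orderOf (⟨v, h1⟩ : Y) := Subgroup.orderOf_coe (⟨v, h1⟩ : Y)
      rw [h3]
      exact orderOf_dvd_natCard _
    have h3 : orderOf v ∣ e := orderOf_pow_dvd _
    rcases (Nat.dvd_prime hs).1 h2 with h4 | h4
    · exact orderOf_eq_one_iff.1 h4
    · exact absurd (h4 ▸ h3) hws
  have hwn : ∀ n : ℕ, ∀ y ∈ Y, w ^ n * y * (w ^ n)⁻¹ ∈ Y := by
    intro n
    induction n with
    | zero => intro y hy; rw [pow_zero, one_mul, inv_one, mul_one]; exact hy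
    | succ n ih =>
      intro y hy
      have e1 : w ^ (n + 1) * y * (w ^ (n + 1))⁻¹ = w * (w ^ n * y * (w ^ n)⁻¹) * w⁻¹ := by
        rw [pow_succ']; group
      rw [e1]
      exact hwY _ (ih y hy)
  have hvn : ∀ y ∈ Y, v * y * v⁻¹ ∈ Y := hwn _
  have hvc : ¬ ∀ y ∈ Y, v * y = y * v := fun h1 => hvY (hYc v (mem_inf.1 hvM).1 h1)
  have ht : c⁻¹ * v * c ∈ A := mem_cj.1 (mem_inf.1 hvM).2
  have hy3 : v⁻¹ * (c⁻¹ * v * c) ∈ Y := by
    apply hYc _ (A.mul_mem (A.inv_mem (mem_inf.1 hvM).1) ht)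
    intro y hy
    have h1 := hc y hy
    have h2 := hc _ (hvn y hy)
    have h3 : (c⁻¹ * v * c) * y = (v * y * v⁻¹) * (c⁻¹ * v * c) := by
      calc (c⁻¹ * v * c) * y = c⁻¹ * v * (c * y) := by group
        _ = c⁻¹ * v * (y * c) := by rw [h1]
        _ = c⁻¹ * ((v * y * v⁻¹) * c) * (c⁻¹ * v * c) := by group
        _ = c⁻¹ * (c * (v * y * v⁻¹)) * (c⁻¹ * v * c) := by rw [h2]
        _ = _ := by group
    calc v⁻¹ * (c⁻¹ * v * c) * y = v⁻¹ * ((c⁻¹ * v * c) * y) := by group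
      _ = v⁻¹ * ((v * y * v⁻¹) * (c⁻¹ * v * c)) := by rw [h3]
      _ = y * (v⁻¹ * (c⁻¹ * v * c)) := by group
  -- the map `y ↦ v⁻¹ y⁻¹ v y` is onto
  have hgen : ∀ z ∈ Y, z ≠ 1 → ∀ y ∈ Y, ∃ j : ℤ, y = z ^ j := by
    intro z hz hz1 y hy
    have h1 := zpowers_eq_top_of_prime_card hY (g := ⟨z, hz⟩) (fun e1 => hz1 (Subtype.ext_iff.1 e1))
    have h2 : (⟨y, hy⟩ : Y) ∈ zpowers (⟨z, hz⟩ : Y) := by rw [h1]; exact mem_top _
    obtain ⟨j, hj⟩ := mem_zpowers_iff.1 h2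
    exact ⟨j, (Subtype.ext_iff.1 hj).symm⟩
  have hfY : ∀ y : Y, v⁻¹ * (y : Q)⁻¹ * v * y ∈ Y := by
    intro y
    have h1 := hvn
    have h2 : ∀ n : ℕ, ∀ y ∈ Y, v ^ n * y * (v ^ n)⁻¹ ∈ Y := by
      intro n
      rw [hv, ← pow_mul]
      exact hwn _
    have h3 := h2 (orderOf v - 1) _ (Y.inv_mem y.2)
    have h4 : v ^ (orderOf v - 1) = v⁻¹ := by
      rw [eq_inv_iff_mul_eq_one, ← pow_succ, Nat.sub_add_cancel (orderOf_pos v), pow_orderOf_eq_one]
    rw [h4, inv_inv] at h3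
    exact Y.mul_mem h3 y.2
  let f : Y → Y := fun y => ⟨_, hfY y⟩
  have hfi : Function.Injective f := by
    intro y y' hyy
    have h1 : v⁻¹ * (y : Q)⁻¹ * v * y = v⁻¹ * (y' : Q)⁻¹ * v * y' := Subtype.ext_iff.1 hyy
    by_contra hne
    apply hvc
    have hz : (y' : Q) * (y : Q)⁻¹ ∈ Y := Y.mul_mem y'.2 (Y.inv_mem y.2)
    have hz1 : (y' : Q) * (y : Q)⁻¹ ≠ 1 := by
      intro e1
      exact hne (Subtype.ext (mul_inv_eq_one.1 e1).symm)
    have hzv : ((y' : Q) * (y : Q)⁻¹) * v = v * ((y' : Q) * (y : Q)⁻¹) := by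
      have h2 : (y : Q)⁻¹ * v * y = (y' : Q)⁻¹ * v * y' := by
        have h3 := congrArg (fun q => v * q) h1
        simp only [mul_assoc, mul_inv_cancel_left] at h3
        simpa only [mul_assoc] using h3
      calc ((y' : Q) * (y : Q)⁻¹) * v = y' * ((y : Q)⁻¹ * v * y) * (y : Q)⁻¹ := by group
        _ = y' * ((y' : Q)⁻¹ * v * y') * (y : Q)⁻¹ := by rw [h2]
        _ = _ := by group
    intro x hx
    obtain ⟨j, rfl⟩ := hgen _ hz hz1 x hx
    exact ((show Commute v _ from hzv.symm).zpow_right j)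
  obtain ⟨y, hy⟩ := (Finite.injective_iff_surjective.1 hfi) ⟨_, Y.inv_mem hy3⟩
  have hy' : v⁻¹ * (y : Q)⁻¹ * v * y = (v⁻¹ * (c⁻¹ * v * c))⁻¹ := Subtype.ext_iff.1 hy
  refine ⟨y, y.2, ?_⟩
  have h5 := hYab _ y.2 _ hy3
  have h6 : (c * (y : Q))⁻¹ * v * (c * y) = v := by
    calc (c * (y : Q))⁻¹ * v * (c * y) = (y : Q)⁻¹ * v * ((v⁻¹ * (c⁻¹ * v * c)) * y) := by group
      _ = (y : Q)⁻¹ * v * (y * (v⁻¹ * (c⁻¹ * v * c))) := by rw [h5]
      _ = v * (v⁻¹ * (y : Q)⁻¹ * v * y) * (v⁻¹ * (c⁻¹ * v * c)) := by group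
      _ = v := by rw [hy']; group
  rw [mul_assoc, inv_mul_eq_iff_eq_mul] at h6
  exact h6.symm

end EPT

end Cfsg.Agent.H284
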