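import Mathlib

/-!
# Extremely primitive groups, the abstract engine, part 1 (helper284; facts of helper91, helper67, helper419)

* `EPA G Ω` : the action is primitive, the point stabilisers `G_a` are not trivial, `G_ab` is maximal in `G_a` for
  all `b ≠ a`;
* `F1` : a nontrivial normal subgroup of `G_a` fixes only `a`;
* `EP H` : the group form; `EP.F1` (a nontrivial normal subgroup of `H` is in no other conjugate), `EP.fac`,
  `EP.norm` (F3), `EP.comm_inf`, `EP.card_comm` (F4);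
* `reg_comm`, `reg_sub` : a solvable group acting irreducibly on `N`: `N` is elementary abelian;
* `EP.T_max` (F2), `EP.inf_T_ne_bot`, `EP.norm_A`, `EP.M0_ne_bot` (F3).
-/

set_option autoImplicit false
set_option linter.unusedSectionVars false

namespace Cfsg.Agent.H284

open MulAction Subgroup
open scoped commutatorElement

variable {G : Type*} [Group G] {Ω : Type*} [MulAction G Ω]

/-- conjugate subgroup `x H x⁻¹` -/
abbrev cj (x : G) (H : Subgroup G) : Subgroup G := H.map (MulAut.conj x).toMonoidHom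

theorem mem_cj {x g : G} {H : Subgroup G} : g ∈ cj x H ↔ x⁻¹ * g * x ∈ H := by
  constructor
  · rintro ⟨h, hh, rfl⟩
    have : x⁻¹ * ((MulAut.conj x).toMonoidHom h) * x = h := by
      show x⁻¹ * (x * h * x⁻¹) * x = h
      group
    rw [this]; exact hh
  · intro h
    refine ⟨_, h, ?_⟩
    show x * (x⁻¹ * g * x) * x⁻¹ = g
    group

theorem conj_mem_cj {x g : G} {H : Subgroup G} (h : g ∈ H) : x * g * x⁻¹ ∈ cj x H := ⟨g, h, rfl⟩

theorem cj_mul (x y : G) (H : Subgroup G) : cj (x * y) H = cj x (cj y H) := by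
  ext g
  rw [mem_cj, mem_cj, mem_cj]
  have : (x * y)⁻¹ * g * (x * y) = y⁻¹ * (x⁻¹ * g * x) * y := by group
  rw [this]

theorem cj_one (H : Subgroup G) : cj 1 H = H := by
  ext g
  rw [mem_cj]
  simp

theorem cj_inv_cj (x : G) (H : Subgroup G) : cj x⁻¹ (cj x H) = H := by rw [← cj_mul, inv_mul_cancel, cj_one]

theorem cj_cj_inv (x : G) (H : Subgroup G) : cj x (cj x⁻¹ H) = H := by rw [← cj_mul, mul_inv_cancel, cj_one]

theorem cj_mono {x : G} {H K : Subgroup G} (h : H ≤ K) : cj x H ≤ cj x K := Subgroup.map_mono h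

theorem cj_le_iff {x : G} {H K : Subgroup G} : cj x H ≤ K ↔ H ≤ cj x⁻¹ K := by
  constructor
  · intro h
    rw [← cj_inv_cj x H]
    exact cj_mono h
  · intro h
    rw [← cj_cj_inv x K]
    exact cj_mono h

theorem cj_eq_bot_iff {x : G} {H : Subgroup G} : cj x H = ⊥ ↔ H = ⊥ := by
  constructor
  · intro h
    rw [← cj_inv_cj x H, h]
    exact Subgroup.map_bot _
  · rintro rfl
    exact Subgroup.map_bot _

theorem cj_inf (x : G) (H K : Subgroup G) : cj x (H ⊓ K) = cj x H ⊓ cj x K := by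
  ext g
  rw [mem_inf, mem_cj, mem_cj, mem_cj, mem_inf]

theorem card_cj (x : G) (H : Subgroup G) : Nat.card (cj x H) = Nat.card H :=
  Nat.card_congr (H.equivMapOfInjective _ (MulAut.conj x).injective).toEquiv.symm

theorem cj_eq_self {x : G} {H : Subgroup G} (hx : x ∈ H) : cj x H = H := by
  ext g
  rw [mem_cj]
  constructor
  · intro h
    have : g = x * (x⁻¹ * g * x) * x⁻¹ := by group
    rw [this]
    exact H.mul_mem (H.mul_mem hx h) (H.inv_mem hx)
  · intro h
    exact H.mul_mem (H.mul_mem (H.inv_mem hx) h) hx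

theorem stab_smul (g : G) (a : Ω) : stabilizer G (g • a) = cj g (stabilizer G a) := by
  ext x
  rw [mem_cj, mem_stabilizer_iff, mem_stabilizer_iff, mul_smul, mul_smul, inv_smul_eq_iff]

/-- Extremely primitive actions. -/
structure EPA (G Ω : Type*) [Group G] [MulAction G Ω] : Prop where
  tr : IsPretransitive G Ω
  max : ∀ a : Ω, IsCoatom (stabilizer G a)
  ne : ∀ a : Ω, stabilizer G a ≠ ⊥
  two : ∀ (a b : Ω), b ≠ a → ∀ L : Subgroup G, stabilizer G a ⊓ stabilizer G b ≤ L → L ≤ stabilizer G a →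
    L = stabilizer G a ⊓ stabilizer G b ∨ L = stabilizer G a

namespace EPA

variable (h : EPA G Ω)

include h

theorem exists_smul (a b : Ω) : ∃ g : G, g • a = b := h.tr.exists_smul_eq a b

theorem not_le [FaithfulSMul G Ω] {a b : Ω} (hab : a ≠ b) : ¬ stabilizer G a ≤ stabilizer G b := by
  intro hle
  have h1 : stabilizer G a = stabilizer G b := by
    by_contra hne
    exact (h.max b).1 ((h.max a).2 _ (lt_of_le_of_ne hle hne))
  obtain ⟨g, hg⟩ := h.exists_smul a b
  have h2 : cj g (stabilizer G a) = stabilizer G a := by rw [← stab_smul, hg, h1]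
  have h3 : g ∈ Subgroup.normalizer (stabilizer G a : Set G) := by
    rw [Subgroup.mem_normalizer_iff]
    intro x
    constructor
    · intro hx
      have := conj_mem_cj (x := g) hx
      rwa [h2] at this
    · intro hx
      rw [← h2, mem_cj] at hx
      have e : g⁻¹ * (g * x * g⁻¹) * g = x := by group
      rwa [e] at hx
  have h4 : Subgroup.normalizer (stabilizer G a : Set G) = ⊤ := by
    by_contra hne
    have h5 : stabilizer G a = Subgroup.normalizer (stabilizer G a : Set G) := by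
      by_contra hne'
      exact hne ((h.max a).2 _ (lt_of_le_of_ne Subgroup.le_normalizer hne'))
    rw [← h5] at h3
    exact hab (h3.symm.trans hg)
  apply h.ne a
  rw [Subgroup.eq_bot_iff_forall]
  intro x hx
  apply FaithfulSMul.eq_of_smul_eq_smul (α := Ω)
  intro c
  rw [one_smul]
  obtain ⟨k, rfl⟩ := h.exists_smul a c
  have hk : k⁻¹ ∈ Subgroup.normalizer (stabilizer G a : Set G) := by rw [h4]; exact mem_top _
  have h6 := (Subgroup.mem_normalizer_iff.1 hk x).1 hx
  rw [inv_inv] at h6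
  have h7 : k⁻¹ * x * k ∈ stabilizer G a := h6
  rw [mem_stabilizer_iff, mul_smul, mul_smul, inv_smul_eq_iff] at h7
  exact h7

theorem sup_eq_top [FaithfulSMul G Ω] {a b : Ω} (hab : a ≠ b) : stabilizer G a ⊔ stabilizer G b = ⊤ := by
  apply (h.max a).2
  rw [left_lt_sup]
  exact h.not_le hab.symm

/-- a set invariant under two point stabilisers is invariant -/
theorem inv_of_two [FaithfulSMul G Ω] {a b : Ω} (hab : a ≠ b) {S : Set Ω}
    (ha : ∀ g ∈ stabilizer G a, ∀ x ∈ S, g • x ∈ S) (hb : ∀ g ∈ stabilizer G b, ∀ x ∈ S, g • x ∈ S)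
    {x : Ω} (hx : x ∈ S) (g : G) : g • x ∈ S := by
  let T : Subgroup G :=
    { carrier := {g | (∀ x ∈ S, g • x ∈ S) ∧ ∀ x ∈ S, g⁻¹ • x ∈ S}
      one_mem' := ⟨fun x hx => by rwa [one_smul], fun x hx => by rwa [inv_one, one_smul]⟩
      mul_mem' := fun {g k} hg hk => ⟨fun x hx => by rw [mul_smul]; exact hg.1 _ (hk.1 _ hx),
        fun x hx => by rw [mul_inv_rev, mul_smul]; exact hk.2 _ (hg.2 _ hx)⟩
      inv_mem' := fun {g} hg => ⟨hg.2, fun x hx => by rw [inv_inv]; exact hg.1 _ hx⟩ }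
  have h1 : stabilizer G a ⊔ stabilizer G b ≤ T := by
    apply sup_le
    · intro g hg
      exact ⟨ha g hg, ha _ (inv_mem hg)⟩
    · intro g hg
      exact ⟨hb g hg, hb _ (inv_mem hg)⟩
  rw [h.sup_eq_top hab] at h1
  exact (h1 (mem_top g)).1 x hx

/-- A nonempty set invariant under two point stabilisers is everything. -/
theorem eq_univ_of_two [FaithfulSMul G Ω] {a b : Ω} (hab : a ≠ b) {S : Set Ω}
    (ha : ∀ g ∈ stabilizer G a, ∀ x ∈ S, g • x ∈ S) (hb : ∀ g ∈ stabilizer G b, ∀ x ∈ S, g • x ∈ S)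
    (hS : S.Nonempty) (y : Ω) : y ∈ S := by
  obtain ⟨x, hx⟩ := hS
  obtain ⟨g, rfl⟩ := h.exists_smul x y
  exact h.inv_of_two hab ha hb hx g

/-- A subgroup of `G_a` normalised by `G_a` and moving `c` has the same orbit of `c` as `G_a`. -/
theorem orbit_of_normal {a c : Ω} (hac : c ≠ a) {K : Subgroup G} (hK : K ≤ stabilizer G a)
    (hn : ∀ g ∈ stabilizer G a, ∀ k ∈ K, g * k * g⁻¹ ∈ K) (hc : ¬ K ≤ stabilizer G c) {g : G}
    (hg : g ∈ stabilizer G a) : ∃ k ∈ K, g • c = k • c := by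
  let T : Subgroup G :=
    { carrier := {g | g ∈ stabilizer G a ∧ ∃ k ∈ K, g • c = k • c}
      one_mem' := ⟨one_mem _, 1, one_mem _, rfl⟩
      mul_mem' := by
        rintro g₁ g₂ ⟨h1, k₁, hk₁, e₁⟩ ⟨h2, k₂, hk₂, e₂⟩
        refine ⟨mul_mem h1 h2, g₁ * k₂ * g₁⁻¹ * k₁, mul_mem (hn g₁ h1 k₂ hk₂) hk₁, ?_⟩
        rw [mul_smul, e₂, mul_smul _ k₁, ← e₁, ← mul_smul, ← mul_smul]
        congr 1
        group
      inv_mem' := by
        rintro g ⟨h1, k, hk, e⟩
        refine ⟨inv_mem h1, (g⁻¹ * k * g)⁻¹, inv_mem ?_, ?_⟩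
        · have := hn g⁻¹ (inv_mem h1) k hk
          rwa [inv_inv] at this
        · rw [eq_inv_smul_iff, ← mul_smul]
          have e1 : g⁻¹ * k * g * g⁻¹ = g⁻¹ * k := by group
          rw [e1, mul_smul, ← e, inv_smul_smul] }
  have h1 : stabilizer G a ⊓ stabilizer G c ⊔ K ≤ T := by
    apply sup_le
    · intro x hx
      exact ⟨(mem_inf.1 hx).1, 1, one_mem _, by rw [one_smul]; exact (mem_inf.1 hx).2⟩
    · intro x hx
      exact ⟨hK hx, x, hx, rfl⟩
  rcases h.two a c hac (stabilizer G a ⊓ stabilizer G c ⊔ K) le_sup_left (sup_le inf_le_left hK) with h2 | h2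
  · exfalso
    apply hc
    exact (le_sup_right : K ≤ stabilizer G a ⊓ stabilizer G c ⊔ K).trans (h2.le.trans inf_le_right)
  · rw [h2] at h1
    exact (h1 hg).2

/-- **(F1)** A nontrivial normal subgroup of the stabiliser of a point fixes no other point. -/
theorem F1 [Finite Ω] [FaithfulSMul G Ω] (Kf : Ω → Subgroup G)
    (hle : ∀ p, Kf p ≤ stabilizer G p) (hK : ∀ (g : G) p, Kf (g • p) = cj g (Kf p)) {a b : Ω} (hab : b ≠ a)
    (hb : Kf a ≤ stabilizer G b) : Kf a = ⊥ := by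
  by_contra hne
  classical
  have hfin : Fintype Ω := Fintype.ofFinite Ω
  have hKn : ∀ p : Ω, ∀ g ∈ stabilizer G p, ∀ k ∈ Kf p, g * k * g⁻¹ ∈ Kf p := by
    intro p g hg k hk
    have h1 := hK g p
    rw [mem_stabilizer_iff.1 hg] at h1
    rw [h1]
    exact conj_mem_cj hk
  have hequi : ∀ (g : G) (p q : Ω), Kf (g • p) ≤ stabilizer G (g • q) ↔ Kf p ≤ stabilizer G q := by
    intro g p q
    rw [hK, stab_smul]
    constructor
    · intro h1
      have := cj_mono (x := g⁻¹) h1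
      rwa [cj_inv_cj, cj_inv_cj] at this
    · exact cj_mono
  have hKne : ∀ p : Ω, Kf p ≠ ⊥ := by
    intro p
    obtain ⟨g, rfl⟩ := h.exists_smul a p
    rw [hK, Ne, cj_eq_bot_iff]
    exact hne
  have hex : ∀ p : Ω, ∃ q : Ω, q ≠ p ∧ Kf p ≤ stabilizer G q := by
    intro p
    obtain ⟨g, rfl⟩ := h.exists_smul a p
    exact ⟨g • b, fun e => hab (smul_left_cancel g e), (hequi g a b).2 hb⟩
  -- a pair outside
  have hout : ∃ pc : Ω × Ω, ¬ Kf pc.1 ≤ stabilizer G pc.2 := by
    by_contra hcon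
    push Not at hcon
    apply hne
    rw [Subgroup.eq_bot_iff_forall]
    intro x hx
    apply FaithfulSMul.eq_of_smul_eq_smul (α := Ω)
    intro c
    rw [one_smul]
    exact hcon (a, c) hx
  -- the length of the suborbit
  let ℓ : Ω × Ω → ℕ := fun pc => Set.ncard {x | ∃ g ∈ stabilizer G pc.1, g • pc.2 = x}
  obtain ⟨⟨p, c⟩, hpc, hmax⟩ := Set.exists_max_image {pc : Ω × Ω | ¬ Kf pc.1 ≤ stabilizer G pc.2} ℓ
    (Set.toFinite _) hout
  simp only [Set.mem_ofPred_eq] at hpc
  have hcp : c ≠ p := fun e => hpc (e ▸ hle _)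
  -- `c ∈ Γ(q)` for all `q ∈ Γ(p)`, `q ≠ p`
  have key : ∀ q, q ≠ p → Kf p ≤ stabilizer G q → Kf q ≤ stabilizer G c := by
    intro q hqp hq
    by_contra hqc
    have h1 : {x | ∃ g ∈ stabilizer G p, g • c = x} ⊆ {x | ∃ g ∈ stabilizer G q, g • c = x} := by
      rintro x ⟨g, hg, rfl⟩
      obtain ⟨k, hk, e⟩ := h.orbit_of_normal hcp (hle p) (hKn p) hpc hg
      exact ⟨k, hq hk, e.symm⟩
    have h2 : {x | ∃ g ∈ stabilizer G p, g • c = x} = {x | ∃ g ∈ stabilizer G q, g • c = x} :=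
      Set.eq_of_subset_of_ncard_le h1 (hmax (q, c) hqc) (Set.toFinite _)
    have h3 : p ∈ {x | ∃ g ∈ stabilizer G p, g • c = x} := by
      refine h.eq_univ_of_two hqp.symm (S := {x | ∃ g ∈ stabilizer G p, g • c = x}) ?_ ?_
        ⟨c, 1, one_mem _, one_smul _ _⟩ p
      · rintro g hg x ⟨k, hk, rfl⟩
        exact ⟨g * k, mul_mem hg hk, mul_smul _ _ _⟩
      · rw [h2]
        rintro g hg x ⟨k, hk, rfl⟩
        exact ⟨g * k, mul_mem hg hk, mul_smul _ _ _⟩
    obtain ⟨g, hg, e⟩ := h3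
    apply hcp
    have : g • c = g • p := e.trans (mem_stabilizer_iff.1 hg).symm
    exact smul_left_cancel g this
  -- degrees
  have hdeg : ∀ q r : Ω, Set.ncard {x : Ω | Kf q ≤ stabilizer G x} = Set.ncard {x : Ω | Kf r ≤ stabilizer G x} := by
    intro q r
    obtain ⟨g, rfl⟩ := h.exists_smul q r
    symm
    refine Set.ncard_congr (fun (x : Ω) _ => g⁻¹ • x) ?_ ?_ ?_
    · intro x hx
      have := (hequi g q (g⁻¹ • x)).1 (by rw [smul_inv_smul]; exact hx)
      exact this
    · intro x y _ _ e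
      exact smul_left_cancel _ e
    · intro x hx
      exact ⟨g • x, (hequi g q x).2 hx, inv_smul_smul _ _⟩
  have hdeg' : ∀ q r : Ω, Set.ncard {x : Ω | Kf x ≤ stabilizer G q} = Set.ncard {x : Ω | Kf x ≤ stabilizer G r} := by
    intro q r
    obtain ⟨g, rfl⟩ := h.exists_smul q r
    symm
    refine Set.ncard_congr (fun (x : Ω) _ => g⁻¹ • x) ?_ ?_ ?_
    · intro x hx
      have := (hequi g (g⁻¹ • x) q).1 (by rw [smul_inv_smul]; exact hx)
      exact this
    · intro x y _ _ e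
      exact smul_left_cancel _ e
    · intro x hx
      exact ⟨g • x, (hequi g x q).2 hx, inv_smul_smul _ _⟩
  have hcount : Set.ncard {x : Ω | Kf p ≤ stabilizer G x} = Set.ncard {x : Ω | Kf x ≤ stabilizer G c} := by
    have h1 : ∑ q : Ω, Set.ncard {x : Ω | Kf q ≤ stabilizer G x} = ∑ r : Ω, Set.ncard {x : Ω | Kf x ≤ stabilizer G r} := by
      have e1 : ∀ q : Ω, Set.ncard {x : Ω | Kf q ≤ stabilizer G x} = ∑ x : Ω, if Kf q ≤ stabilizer G x then 1 else 0 := by
        intro q
        rw [Finset.sum_boole, Set.ncard_eq_toFinset_card']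
        simp
      have e2 : ∀ r : Ω, Set.ncard {x : Ω | Kf x ≤ stabilizer G r} = ∑ x : Ω, if Kf x ≤ stabilizer G r then 1 else 0 := by
        intro r
        rw [Finset.sum_boole, Set.ncard_eq_toFinset_card']
        simp
      rw [Finset.sum_congr rfl fun q _ => e1 q, Finset.sum_congr rfl fun r _ => e2 r]
      exact Finset.sum_comm
    rw [Finset.sum_congr rfl fun q _ => hdeg q p, Finset.sum_congr rfl fun r _ => hdeg' r c, Finset.sum_const,
      Finset.sum_const] at h1
    have h2 : 0 < (Finset.univ : Finset Ω).card := Finset.card_pos.2 ⟨p, Finset.mem_univ _⟩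
    rw [smul_eq_mul, smul_eq_mul] at h1
    exact Nat.eq_of_mul_eq_mul_left h2 h1
  -- equality
  have hS : {q | Kf p ≤ stabilizer G q} \ {p} = {q | Kf q ≤ stabilizer G c} \ {c} := by
    apply Set.eq_of_subset_of_ncard_le
    · rintro q ⟨hq, hqp⟩
      refine ⟨key q hqp hq, fun e => hpc ?_⟩
      rw [Set.mem_singleton_iff] at e
      rw [← e]
      exact hq
    · rw [Set.ncard_sdiff_singleton_of_mem (show c ∈ {q | Kf q ≤ stabilizer G c} from hle c),
        Set.ncard_sdiff_singleton_of_mem (show p ∈ {q | Kf p ≤ stabilizer G q} from hle p), hcount]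
    · exact Set.toFinite _
  have hfinal : p ∈ {q | Kf p ≤ stabilizer G q} \ {p} := by
    refine h.eq_univ_of_two hcp.symm (S := {q | Kf p ≤ stabilizer G q} \ {p}) ?_ ?_ ?_ p
    · rintro g hg x ⟨hx, hxp⟩
      refine ⟨?_, ?_⟩
      · have h1 := (hequi g p x).2 hx
        rw [mem_stabilizer_iff.1 hg] at h1
        exact h1
      · rw [Set.mem_singleton_iff] at hxp ⊢
        intro e
        apply hxp
        have : g • x = g • p := e.trans (mem_stabilizer_iff.1 hg).symm
        exact smul_left_cancel g this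
    · rw [hS]
      rintro g hg x ⟨hx, hxc⟩
      refine ⟨?_, ?_⟩
      · have h1 := (hequi g x c).2 hx
        rw [mem_stabilizer_iff.1 hg] at h1
        exact h1
      · rw [Set.mem_singleton_iff] at hxc ⊢
        intro e
        apply hxc
        have : g • x = g • c := e.trans (mem_stabilizer_iff.1 hg).symm
        exact smul_left_cancel g this
    · obtain ⟨q, hqp, hq⟩ := hex p
      exact ⟨q, hq, hqp⟩
  exact hfinal.2 rfl

/-- **(F1)** A nontrivial normal subgroup of the stabiliser of a point fixes no other point. -/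
theorem F1' [Finite Ω] [FaithfulSMul G Ω] {a b : Ω} (hab : b ≠ a) {K : Subgroup G} (hK : K ≤ stabilizer G a)
    (hn : ∀ g ∈ stabilizer G a, ∀ k ∈ K, g * k * g⁻¹ ∈ K) (hb : K ≤ stabilizer G b) : K = ⊥ := by
  classical
  choose c hc using fun p => h.exists_smul a p
  have hcs : ∀ s ∈ stabilizer G a, cj s K = K := by
    intro s hs
    apply le_antisymm
    · rintro _ ⟨k, hk, rfl⟩
      exact hn s hs k hk
    · intro k hk
      rw [mem_cj]
      have := hn s⁻¹ (inv_mem hs) k hk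
      rwa [inv_inv] at this
  have h1 : ∀ (g : G) (p : Ω), cj (c (g • p)) K = cj g (cj (c p) K) := by
    intro g p
    have e : c (g • p) = g * c p * ((g * c p)⁻¹ * c (g • p)) := by group
    have hs : (g * c p)⁻¹ * c (g • p) ∈ stabilizer G a := by
      rw [mem_stabilizer_iff, mul_smul, hc, inv_smul_eq_iff, mul_smul, hc]
    rw [e, cj_mul, hcs _ hs, cj_mul]
  have h2 : cj (c a) K = K := hcs _ (hc a)
  have h3 := h.F1 (fun p => cj (c p) K) (fun p => by
    conv_rhs => rw [← hc p]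
    rw [stab_smul]
    exact cj_mono hK) h1 hab (by rw [h2]; exact hb)
  rwa [h2] at h3

end EPA

/-! ## The group form -/

/-- Extremely primitive pair, group form: `H` is maximal, core free, not trivial, `H ∩ H^x` is maximal in `H` for
`x ∉ H`. -/
structure EP (H : Subgroup G) : Prop where
  max : IsCoatom H
  core : H.normalCore = ⊥
  ne : H ≠ ⊥
  two : ∀ x ∉ H, ∀ L : Subgroup G, H ⊓ cj x H ≤ L → L ≤ H → L = H ⊓ cj x H ∨ L = H

theorem EPA.toEP [FaithfulSMul G Ω] (h : EPA G Ω) (a : Ω) : EP (stabilizer G a) where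
  max := h.max a
  core := by
    rw [Subgroup.eq_bot_iff_forall]
    intro x hx
    apply FaithfulSMul.eq_of_smul_eq_smul (α := Ω)
    intro c
    rw [one_smul]
    obtain ⟨k, rfl⟩ := h.exists_smul a c
    have h6 := hx k⁻¹
    rw [inv_inv] at h6
    have h7 : k⁻¹ * x * k ∈ stabilizer G a := h6
    rw [mem_stabilizer_iff, mul_smul, mul_smul, inv_smul_eq_iff] at h7
    exact h7
  ne := h.ne a
  two := by
    intro x hx L h1 h2
    have h3 := h.two a (x • a) (fun e => hx e) L
    rw [stab_smul] at h3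
    exact h3 h1 h2

/-- from the hypotheses of S3499 -/
theorem EPA.of_preprimitive [FaithfulSMul G Ω] (hprim : IsPreprimitive G Ω) (hH : ∀ α : Ω, stabilizer G α ≠ ⊥)
    (hep : ∀ (α : Ω) (ω : Ω), IsPreprimitive (stabilizer G α) (orbit (stabilizer G α) ω)) : EPA G Ω where
  tr := hprim.toIsPretransitive
  max := by
    intro a
    have hnt : Nontrivial Ω := by
      by_contra hcon
      rw [not_nontrivial_iff_subsingleton] at hcon
      apply hH a
      rw [Subgroup.eq_bot_iff_forall]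
      intro x _
      apply FaithfulSMul.eq_of_smul_eq_smul (α := Ω)
      intro c
      exact Subsingleton.elim _ _
    exact IsPreprimitive.isCoatom_stabilizer_of_isPreprimitive G a
  ne := hH
  two := by
    intro a b hab L h1 h2
    by_cases ht : Nontrivial (orbit (stabilizer G a) b)
    · have h3 := hep a b
      have h4 : IsCoatom (stabilizer (stabilizer G a) (⟨b, mem_orbit_self b⟩ : orbit (stabilizer G a) b)) :=
        IsPreprimitive.isCoatom_stabilizer_of_isPreprimitive _ _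
      have h5 : ∀ g : stabilizer G a, g ∈ stabilizer (stabilizer G a) (⟨b, mem_orbit_self b⟩ : orbit (stabilizer G a) b) ↔
          (g : G) ∈ stabilizer G b := by
        intro g
        rw [mem_stabilizer_iff, mem_stabilizer_iff, Subtype.ext_iff]
        rfl
      by_cases h6 : L = stabilizer G a ⊓ stabilizer G b
      · exact Or.inl h6
      · right
        apply le_antisymm h2
        have h7 : stabilizer (stabilizer G a) (⟨b, mem_orbit_self b⟩ : orbit (stabilizer G a) b) <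
            L.subgroupOf (stabilizer G a) := by
          refine lt_of_le_of_ne ?_ ?_
          · intro g hg
            exact h1 ⟨g.2, (h5 g).1 hg⟩
          · intro e
            apply h6
            apply le_antisymm _ h1
            intro g hg
            refine ⟨h2 hg, ?_⟩
            have : (⟨g, h2 hg⟩ : stabilizer G a) ∈ L.subgroupOf (stabilizer G a) := hg
            rw [← e] at this
            exact (h5 _).1 this
        have h8 := h4.2 _ h7
        intro g hg
        have : (⟨g, hg⟩ : stabilizer G a) ∈ L.subgroupOf (stabilizer G a) := by rw [h8]; exact mem_top _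
        exact this
    · left
      rw [not_nontrivial_iff_subsingleton] at ht
      apply le_antisymm _ h1
      apply le_inf h2
      intro g hg
      have h3 : (⟨(⟨g, h2 hg⟩ : stabilizer G a) • b, mem_orbit b _⟩ : orbit (stabilizer G a) b) = ⟨b, mem_orbit_self b⟩ :=
        Subsingleton.elim _ _
      exact Subtype.ext_iff.1 h3

/-- from the hypotheses of S5745 -/
theorem EPA.of_isCoatom [FaithfulSMul G Ω] (hprim : IsPreprimitive G Ω) (hH : ∀ α : Ω, stabilizer G α ≠ ⊥)
    (hep : ∀ (α : Ω) (x : G), x ∉ stabilizer G α → IsCoatom ((stabilizer G α ⊓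
      (stabilizer G α).map (MulAut.conj x).toMonoidHom).subgroupOf (stabilizer G α))) : EPA G Ω where
  tr := hprim.toIsPretransitive
  max := by
    intro a
    have hnt : Nontrivial Ω := by
      by_contra hcon
      rw [not_nontrivial_iff_subsingleton] at hcon
      apply hH a
      rw [Subgroup.eq_bot_iff_forall]
      intro x _
      apply FaithfulSMul.eq_of_smul_eq_smul (α := Ω)
      intro c
      exact Subsingleton.elim _ _
    exact IsPreprimitive.isCoatom_stabilizer_of_isPreprimitive G a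
  ne := hH
  two := by
    intro a b hab L h1 h2
    obtain ⟨x, rfl⟩ := hprim.toIsPretransitive.exists_smul_eq a b
    have h4 := hep a x (fun e => hab e)
    rw [stab_smul] at h1 ⊢
    by_cases h6 : L = stabilizer G a ⊓ cj x (stabilizer G a)
    · exact Or.inl h6
    · right
      apply le_antisymm h2
      have h7 : (stabilizer G a ⊓ cj x (stabilizer G a)).subgroupOf (stabilizer G a) < L.subgroupOf (stabilizer G a) := by
        refine lt_of_le_of_ne ?_ ?_
        · intro g hg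
          exact h1 hg
        · intro e
          apply h6
          apply le_antisymm _ h1
          intro g hg
          have : (⟨g, h2 hg⟩ : stabilizer G a) ∈ L.subgroupOf (stabilizer G a) := hg
          rw [← e] at this
          exact this
      have h8 := h4.2 _ h7
      intro g hg
      have : (⟨g, hg⟩ : stabilizer G a) ∈ L.subgroupOf (stabilizer G a) := by rw [h8]; exact mem_top _
      exact this

namespace EP

variable {H : Subgroup G} (h : EP H)

include h

theorem toEPA : EPA G (G ⧸ H) := by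
  have hst : ∀ x : G, stabilizer G (x : G ⧸ H) = cj x H := by
    intro x
    have h1 : (x : G ⧸ H) = x • ((1 : G) : G ⧸ H) := by
      rw [MulAction.Quotient.smul_coe, smul_eq_mul, mul_one]
    rw [h1, stab_smul, MulAction.stabilizer_quotient]
  have hc : IsCoatom H := h.max
  refine ⟨inferInstance, ?_, ?_, ?_⟩
  · intro a
    induction a using QuotientGroup.induction_on with
    | H x =>
      rw [hst]
      refine ⟨?_, ?_⟩
      · intro e
        apply hc.1
        rw [← cj_inv_cj x H, e, Subgroup.eq_top_iff']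
        intro g
        rw [mem_cj]
        exact mem_top _
      · intro L hL
        have h1 : H < cj x⁻¹ L := by
          refine lt_of_le_of_ne (cj_le_iff.1 hL.le) ?_
          intro e
          apply hL.ne
          rw [e, cj_cj_inv]
        have h2 := hc.2 _ h1
        rw [Subgroup.eq_top_iff']
        intro g
        have h3 : x⁻¹ * g * x ∈ cj x⁻¹ L := by rw [h2]; exact mem_top _
        rw [mem_cj] at h3
        have e : x⁻¹⁻¹ * (x⁻¹ * g * x) * x⁻¹ = g := by group
        rwa [e] at h3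
  · intro a
    induction a using QuotientGroup.induction_on with
    | H x =>
      rw [hst, Ne, cj_eq_bot_iff]
      exact h.ne
  · intro a b hab L h1 h2
    induction a using QuotientGroup.induction_on with
    | H x =>
      induction b using QuotientGroup.induction_on with
      | H y =>
        rw [hst, hst] at h1 ⊢
        rw [hst] at h2
        have hy : x⁻¹ * y ∉ H := by
          intro e
          apply hab
          exact (QuotientGroup.eq.2 e).symm
        have e1 : H ⊓ cj (x⁻¹ * y) H = cj x⁻¹ (cj x H ⊓ cj y H) := by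
          rw [cj_mul, cj_inf, cj_inv_cj]
        have h3 := h.two _ hy (cj x⁻¹ L) (by rw [e1]; exact cj_mono h1)
          (by have := cj_mono (x := x⁻¹) h2; rwa [cj_inv_cj] at this)
        rw [e1] at h3
        rcases h3 with h3 | h3
        · left
          rw [← cj_cj_inv x L, h3, cj_cj_inv]
        · right
          rw [← cj_cj_inv x L, h3]

theorem faithful : FaithfulSMul G (G ⧸ H) := by
  constructor
  intro g k hgk
  have h1 : k⁻¹ * g ∈ H.normalCore := by
    rw [Subgroup.normalCore_eq_ker, MonoidHom.mem_ker]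
    ext c
    rw [map_mul, map_inv, Equiv.Perm.mul_apply, Equiv.Perm.inv_def, Equiv.symm_apply_eq]
    exact hgk c
  rw [h.core, mem_bot, inv_mul_eq_one] at h1
  exact h1.symm

/-- **(F1)**: a nontrivial normal subgroup of `H` is in no other conjugate. -/
theorem F1 [Finite G] {K : Subgroup G} (hK : K ≤ H) (hn : ∀ g ∈ H, ∀ k ∈ K, g * k * g⁻¹ ∈ K) {x : G} (hx : x ∉ H)
    (hKx : K ≤ cj x H) : K = ⊥ := by
  have := h.faithful
  have hst : ∀ x : G, stabilizer G (x : G ⧸ H) = cj x H := by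
    intro x
    have h1 : (x : G ⧸ H) = x • ((1 : G) : G ⧸ H) := by
      rw [MulAction.Quotient.smul_coe, smul_eq_mul, mul_one]
    rw [h1, stab_smul, MulAction.stabilizer_quotient]
  apply h.toEPA.F1' (a := ((1 : G) : G ⧸ H)) (b := (x : G ⧸ H))
  · intro e
    apply hx
    have := QuotientGroup.eq.1 e.symm
    rwa [inv_one, one_mul] at this
  · rw [MulAction.stabilizer_quotient]
    exact hK
  · rw [MulAction.stabilizer_quotient]
    exact hn
  · rw [hst]
    exact hKx

/-- `H = K (H ∩ H^x)` for `1 ≠ K ⊴ H`, `x ∉ H` -/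
theorem fac [Finite G] {K : Subgroup G} (hK : K ≤ H) (hn : ∀ g ∈ H, ∀ k ∈ K, g * k * g⁻¹ ∈ K) (hne : K ≠ ⊥) {x : G}
    (hx : x ∉ H) {g : G} (hg : g ∈ H) : ∃ k ∈ K, ∃ m ∈ H ⊓ cj x H, g = k * m := by
  have h1 : K ⊔ (H ⊓ cj x H) = H := by
    rcases h.two x hx (K ⊔ (H ⊓ cj x H)) le_sup_right (sup_le hK inf_le_left) with h2 | h2
    · exfalso
      apply hne
      exact h.F1 hK hn hx ((le_sup_left.trans h2.le).trans inf_le_right)
    · exact h2
  let T : Subgroup G :=
    { carrier := {g | g ∈ H ∧ ∃ k ∈ K, ∃ m ∈ H ⊓ cj x H, g = k * m}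
      one_mem' := ⟨one_mem _, 1, one_mem _, 1, one_mem _, (one_mul 1).symm⟩
      mul_mem' := by
        rintro g₁ g₂ ⟨h1, k₁, hk₁, m₁, hm₁, e₁⟩ ⟨h2, k₂, hk₂, m₂, hm₂, e₂⟩
        refine ⟨mul_mem h1 h2, k₁ * (m₁ * k₂ * m₁⁻¹), mul_mem hk₁ (hn _ (mem_inf.1 hm₁).1 _ hk₂), m₁ * m₂,
          mul_mem hm₁ hm₂, ?_⟩
        rw [e₁, e₂]
        group
      inv_mem' := by
        rintro g ⟨h1, k, hk, m, hm, e⟩
        refine ⟨inv_mem h1, m⁻¹ * k⁻¹ * m⁻¹⁻¹, hn _ (inv_mem (mem_inf.1 hm).1) _ (inv_mem hk), m⁻¹, inv_mem hm, ?_⟩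
        rw [e]
        group }
  have h3 : K ⊔ (H ⊓ cj x H) ≤ T := by
    apply sup_le
    · intro k hk
      exact ⟨hK hk, k, hk, 1, one_mem _, (mul_one k).symm⟩
    · intro m hm
      exact ⟨(mem_inf.1 hm).1, 1, one_mem _, m, hm, (one_mul m).symm⟩
  rw [h1] at h3
  exact (h3 hg).2

theorem not_le_cj [Finite G] {x : G} (hx : x ∉ H) : ¬ H ≤ cj x H := fun e =>
  h.ne (h.F1 le_rfl (fun _ hg _ hk => mul_mem (mul_mem hg hk) (inv_mem hg)) hx e)

/-- **(F3)** `N_H(X) = H ∩ H^x` for `1 ≠ X ⊴ H ∩ H^x`. -/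
theorem norm [Finite G] {x : G} (hx : x ∉ H) {X : Subgroup G} (hX : X ≤ H ⊓ cj x H)
    (hXn : ∀ m ∈ H ⊓ cj x H, ∀ k ∈ X, m * k * m⁻¹ ∈ X) (hne : X ≠ ⊥) {g : G} (hg : g ∈ H)
    (hgX : ∀ k ∈ X, g * k * g⁻¹ ∈ X) : g ∈ cj x H := by
  have hgn : ∀ g : G, (∀ k ∈ X, g * k * g⁻¹ ∈ X) → ∀ k ∈ X, g⁻¹ * k * g⁻¹⁻¹ ∈ X := by
    intro g hg k hk
    have h1 : cj g X = X := by
      apply Subgroup.eq_of_le_of_card_ge
      · rintro _ ⟨k, hk, rfl⟩
        exact hg k hk
      · rw [card_cj]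
    rw [← h1, mem_cj] at hk
    rwa [inv_inv]
  let L : Subgroup G :=
    { carrier := {g | g ∈ H ∧ ∀ k ∈ X, g * k * g⁻¹ ∈ X}
      one_mem' := ⟨one_mem _, fun k hk => by rwa [one_mul, inv_one, mul_one]⟩
      mul_mem' := by
        rintro g₁ g₂ ⟨h1, h2⟩ ⟨h3, h4⟩
        refine ⟨mul_mem h1 h3, fun k hk => ?_⟩
        have := h2 _ (h4 k hk)
        have e : g₁ * g₂ * k * (g₁ * g₂)⁻¹ = g₁ * (g₂ * k * g₂⁻¹) * g₁⁻¹ := by group
        rwa [e]
      inv_mem' := by
        rintro g ⟨h1, h2⟩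
        exact ⟨inv_mem h1, hgn g h2⟩ }
  rcases h.two x hx L (fun m hm => ⟨(mem_inf.1 hm).1, hXn m hm⟩) (fun g hg => hg.1) with h1 | h1
  · have : g ∈ L := ⟨hg, hgX⟩
    rw [h1] at this
    exact (mem_inf.1 this).2
  · exfalso
    apply hne
    apply h.F1 (hX.trans inf_le_left) _ hx (hX.trans inf_le_right)
    intro k hk
    rw [← h1] at hk
    exact hk.2

/-- **(F4)** Commuting nontrivial normal subgroups are semiregular outside. -/
theorem comm_inf [Finite G] {X Y : Subgroup G} (hX : X ≤ H) (hXn : ∀ g ∈ H, ∀ k ∈ X, g * k * g⁻¹ ∈ X)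
    (hY : Y ≤ H) (hYn : ∀ g ∈ H, ∀ k ∈ Y, g * k * g⁻¹ ∈ Y) (hYne : Y ≠ ⊥)
    (hXY : ∀ a ∈ X, ∀ b ∈ Y, a * b = b * a) {x : G} (hx : x ∉ H) : X ⊓ cj x H = ⊥ := by
  apply h.F1 (inf_le_left.trans hX) _ hx inf_le_right
  intro g hg k hk
  obtain ⟨hk1, hk2⟩ := mem_inf.1 hk
  obtain ⟨y, hy, m, hm, rfl⟩ := h.fac hY hYn hYne hx hg
  have h1 : m * k * m⁻¹ ∈ X := hXn m (mem_inf.1 hm).1 k hk1
  have h2 : y * m * k * (y * m)⁻¹ = m * k * m⁻¹ := by
    have h3 := hXY _ h1 y hy
    calc y * m * k * (y * m)⁻¹ = y * (m * k * m⁻¹) * y⁻¹ := by group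
      _ = m * k * m⁻¹ := by rw [← h3]; group
  rw [h2]
  exact ⟨h1, (cj x H).mul_mem ((cj x H).mul_mem (mem_inf.1 hm).2 hk2) ((cj x H).inv_mem (mem_inf.1 hm).2)⟩

/-- a normal subgroup of `H` which is semiregular outside has order `|H : H ∩ H^x|` -/
theorem card_of_inf [Finite G] {X : Subgroup G} (hX : X ≤ H) (hXn : ∀ g ∈ H, ∀ k ∈ X, g * k * g⁻¹ ∈ X)
    (hne : X ≠ ⊥) {x : G} (hx : x ∉ H) (hinf : X ⊓ cj x H = ⊥) :
    Nat.card X * Nat.card (H ⊓ cj x H : Subgroup G) = Nat.card H := by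
  rw [← Nat.card_prod]
  apply Nat.card_congr
  refine Equiv.ofBijective (fun p => (⟨p.1.1 * p.2.1, mul_mem (hX p.1.2) (mem_inf.1 p.2.2).1⟩ : H)) ⟨?_, ?_⟩
  · rintro ⟨a, b⟩ ⟨c, d⟩ e
    have e1 : (a : G) * b = c * d := Subtype.ext_iff.1 e
    have e2 : (c : G)⁻¹ * a = d * (b : G)⁻¹ := by
      rw [inv_mul_eq_iff_eq_mul, ← mul_assoc, ← e1, mul_assoc, mul_inv_cancel, mul_one]
    have h1 : (c : G)⁻¹ * a ∈ X ⊓ cj x H := by
      refine ⟨X.mul_mem (X.inv_mem c.2) a.2, ?_⟩
      rw [e2]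
      exact (cj x H).mul_mem (mem_inf.1 d.2).2 ((cj x H).inv_mem (mem_inf.1 b.2).2)
    rw [hinf, mem_bot] at h1
    rw [h1] at e2
    rw [inv_mul_eq_one] at h1
    have h2 : (d : G) = b := by
      rw [eq_comm, mul_inv_eq_one] at e2
      exact e2
    exact Prod.ext (Subtype.ext h1.symm) (Subtype.ext h2.symm)
  · rintro ⟨g, hg⟩
    obtain ⟨k, hk, m, hm, e⟩ := h.fac hX hXn hne hx hg
    exact ⟨(⟨k, hk⟩, ⟨m, hm⟩), Subtype.ext e.symm⟩

/-- **(F4)** -/
theorem card_comm [Finite G] {X Y : Subgroup G} (hX : X ≤ H) (hXn : ∀ g ∈ H, ∀ k ∈ X, g * k * g⁻¹ ∈ X) (hXne : X ≠ ⊥)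
    (hY : Y ≤ H) (hYn : ∀ g ∈ H, ∀ k ∈ Y, g * k * g⁻¹ ∈ Y) (hYne : Y ≠ ⊥)
    (hXY : ∀ a ∈ X, ∀ b ∈ Y, a * b = b * a) (hH : H ≠ ⊤) : Nat.card X = Nat.card Y := by
  obtain ⟨x, hx⟩ : ∃ x, x ∉ H := by
    by_contra hcon
    push Not at hcon
    exact hH ((Subgroup.eq_top_iff' H).2 hcon)
  have h1 := h.card_of_inf hX hXn hXne hx (h.comm_inf hX hXn hY hYn hYne hXY hx)
  have h2 := h.card_of_inf hY hYn hYne hx (h.comm_inf hY hYn hX hXn hXne (fun a ha b hb => (hXY b hb a ha).symm) hx)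
  exact Nat.eq_of_mul_eq_mul_right Nat.card_pos (h1.trans h2.symm)

end EP


/-- A group of automorphisms without proper nontrivial invariant subgroups which has a normal `r`-subgroup without
fixed points: the group is abelian. -/
theorem reg_core {N : Type*} [Group N] [Finite N] (S R : Subgroup (MulAut N)) {r : ℕ} (hr : r.Prime)
    (hRn : ∀ s ∈ S, ∀ t ∈ R, s * t * s⁻¹ ∈ R) (hRp : IsPGroup r R) (hfix : ∀ n : N, (∀ ρ ∈ R, ρ n = n) → n = 1)
    (hirr : ∀ L : Subgroup N, (∀ s ∈ S, ∀ l ∈ L, s l ∈ L) → L = ⊥ ∨ L = ⊤) (a b : N) : a * b = b * a := by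
  classical
  have := Fact.mk hr
  have hRfin : Finite R := inferInstance
  by_cases hN : Nat.card N = 1
  · have := (Nat.card_eq_one_iff_unique.1 hN).1
    exact Subsingleton.elim _ _
  -- `r` does not divide the order
  have hrN : ¬ r ∣ Nat.card N := by
    intro hdiv
    have h1 := hRp.card_modEq_card_fixedPoints N
    have h2 : Nat.card (fixedPoints R N) = 1 := by
      rw [Nat.card_eq_one_iff_unique]
      refine ⟨⟨?_⟩, ⟨1, fun ρ => smul_one ρ⟩⟩
      rintro ⟨x, hx⟩ ⟨y, hy⟩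
      apply Subtype.ext
      show x = y
      rw [hfix x (fun ρ hρ => hx ⟨ρ, hρ⟩), hfix y (fun ρ hρ => hy ⟨ρ, hρ⟩)]
    rw [h2] at h1
    have h3 : (Nat.card N) % r = 0 := Nat.mod_eq_zero_of_dvd hdiv
    rw [Nat.ModEq, h3, Nat.mod_eq_of_lt hr.one_lt] at h1
    omega
  obtain ⟨p, hp, hpN⟩ := Nat.exists_prime_and_dvd hN
  have := Fact.mk hp
  -- an invariant Sylow subgroup
  have hSyl : ∃ Q : Sylow p N, ∀ ρ : R, ρ • Q = Q := by
    have h1 : ¬ r ∣ Nat.card (Sylow p N) := by
      intro hdiv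
      apply hrN
      apply hdiv.trans
      have Q0 : Sylow p N := default
      exact (Sylow.card_dvd_index Q0).trans (Subgroup.index_dvd_card _)
    obtain ⟨Q, hQ⟩ := hRp.nonempty_fixed_point_of_prime_not_dvd_card (Sylow p N) h1
    exact ⟨Q, hQ⟩
  obtain ⟨Q, hQ⟩ := hSyl
  have huniq : ∀ Q' : Sylow p N, (∀ ρ : R, ρ • Q' = Q') → Q' = Q := by
    intro Q' hQ'
    have h0 : ∀ (ρ : R) (n : N) (P : Sylow p N), ρ • (n • P) = (ρ • n) • (ρ • P) := by
      intro ρ n P
      apply Sylow.ext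
      ext x
      constructor
      · rintro ⟨y, ⟨z, hz, rfl⟩, rfl⟩
        refine ⟨_, ⟨z, hz, rfl⟩, ?_⟩
        show (ρ • n) * (ρ • z) * (ρ • n)⁻¹ = ρ • (n * z * n⁻¹)
        rw [smul_mul', smul_mul', smul_inv']
      · rintro ⟨y, ⟨z, hz, rfl⟩, rfl⟩
        refine ⟨_, ⟨z, hz, rfl⟩, ?_⟩
        show ρ • (n * z * n⁻¹) = (ρ • n) * (ρ • z) * (ρ • n)⁻¹
        rw [smul_mul', smul_mul', smul_inv']
    let Z := {n : N // n • Q = Q'}
    let _ : MulAction R Z :=
      { smul := fun ρ n => ⟨ρ • n.1, by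
          have := h0 ρ n.1 Q
          rw [n.2, hQ', hQ] at this
          exact this.symm⟩
        one_smul := fun n => Subtype.ext (one_smul _ _)
        mul_smul := fun ρ τ n => Subtype.ext (mul_smul _ _ _) }
    have h1 : ¬ r ∣ Nat.card Z := by
      intro hdiv
      apply hrN
      apply hdiv.trans
      obtain ⟨n0, hn0⟩ := MulAction.exists_smul_eq N Q Q'
      have h2 : Nat.card Z = Nat.card (stabilizer N Q) := by
        apply Nat.card_congr
        refine ⟨fun n => ⟨n0⁻¹ * n.1, ?_⟩, fun n => ⟨n0 * n.1, ?_⟩, fun n => ?_, fun n => ?_⟩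
        · rw [mem_stabilizer_iff, mul_smul, n.2, ← hn0, inv_smul_smul]
        · rw [mul_smul, n.2, hn0]
        · exact Subtype.ext (mul_inv_cancel_left _ _)
        · exact Subtype.ext (inv_mul_cancel_left _ _)
      rw [h2]
      exact Subgroup.card_subgroup_dvd_card _
    obtain ⟨n, hn⟩ := hRp.nonempty_fixed_point_of_prime_not_dvd_card Z h1
    have h2 : n.1 = 1 := by
      apply hfix
      intro ρ hρ
      exact Subtype.ext_iff.1 (hn ⟨ρ, hρ⟩)
    rw [← n.2, h2, one_smul]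
  have hQS : ∀ s ∈ S, ∀ l ∈ (Q : Subgroup N), s l ∈ (Q : Subgroup N) := by
    intro s hs l hl
    have h1 : s • Q = Q := by
      apply huniq
      intro ρ
      have h2 := hRn s⁻¹ (inv_mem hs) ρ ρ.2
      rw [inv_inv] at h2
      have h3 := hQ ⟨_, h2⟩
      have h4 : (s⁻¹ * (ρ : MulAut N) * s) • Q = Q := h3
      rw [mul_smul, mul_smul, inv_smul_eq_iff] at h4
      exact h4
    have h2 : s • l ∈ ((s • Q : Sylow p N) : Subgroup N) := ⟨l, hl, rfl⟩
    rw [h1] at h2
    exact h2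
  have hQtop : (Q : Subgroup N) = ⊤ := by
    rcases hirr Q hQS with h1 | h1
    · exfalso
      exact Sylow.ne_bot_of_dvd_card Q hpN h1
    · exact h1
  have hNp : IsPGroup p N := by
    have h1 := Q.isPGroup'
    rw [hQtop] at h1
    exact h1.of_equiv Subgroup.topEquiv
  -- the center
  have : Nontrivial N := by
    by_contra hcon
    rw [not_nontrivial_iff_subsingleton] at hcon
    exact hN (Nat.card_eq_one_iff_unique.2 ⟨hcon, ⟨1⟩⟩)
  rcases hirr (center N) (fun s _ l hl => by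
    rw [mem_center_iff] at hl ⊢
    intro g
    have h1 := hl (s⁻¹ g)
    have h2 := congrArg s h1
    rw [map_mul, map_mul, MulAut.apply_inv_self] at h2
    exact h2) with h1 | h1
  · exfalso
    have := hNp.center_nontrivial
    rw [h1] at this
    exact not_subsingleton (⊥ : Subgroup N) inferInstance
  · have : b ∈ center N := by rw [h1]; exact mem_top _
    exact (mem_center_iff.1 this a)

/-- A solvable group of automorphisms without proper nontrivial invariant subgroups: the group is abelian. -/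
theorem reg_comm {N : Type*} [Group N] [Finite N] (S : Subgroup (MulAut N)) (hS : Group.IsSolvable S)
    (hirr : ∀ L : Subgroup N, (∀ s ∈ S, ∀ l ∈ L, s l ∈ L) → L = ⊥ ∨ L = ⊤) (a b : N) : a * b = b * a := by
  classical
  by_cases hS1 : S = ⊥
  · -- no proper subgroups
    by_cases ha : a = 1
    · rw [ha, one_mul, mul_one]
    rcases hirr (zpowers a) (fun s hs l hl => by
      rw [hS1, mem_bot] at hs
      rw [hs]; exact hl) with h1 | h1
    · exact absurd (zpowers_eq_bot.1 h1) ha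
    · have hb : b ∈ zpowers a := by rw [h1]; exact mem_top _
      obtain ⟨k, rfl⟩ := mem_zpowers_iff.1 hb
      exact (Commute.refl a).zpow_right k
  · -- the last nontrivial derived subgroup
    have hfinS : Finite S := inferInstance
    obtain ⟨R, r, hr, hRS, hRn, hRne, hRp⟩ : ∃ (R : Subgroup (MulAut N)) (r : ℕ), r.Prime ∧ R ≤ S ∧
        (∀ s ∈ S, ∀ t ∈ R, s * t * s⁻¹ ∈ R) ∧ R ≠ ⊥ ∧ IsPGroup r R := by
      obtain ⟨n, hn⟩ := hS.solvable
      have hex : ∃ n, derivedSeries S n = ⊥ := ⟨n, hn⟩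
      set m := Nat.find hex with hm
      have hm0 : derivedSeries S m = ⊥ := Nat.find_spec hex
      have hmpos : m ≠ 0 := by
        intro e
        rw [e, derivedSeries_zero] at hm0
        apply hS1
        rw [Subgroup.eq_bot_iff_forall]
        intro x hx
        have h1 : (⟨x, hx⟩ : S) ∈ (⊤ : Subgroup S) := mem_top _
        rw [hm0, mem_bot] at h1
        exact Subtype.ext_iff.1 h1
      obtain ⟨k, hk⟩ := Nat.exists_eq_succ_of_ne_zero hmpos
      set D := derivedSeries S k with hD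
      have hDne : D ≠ ⊥ := Nat.find_min hex (by omega)
      have hDab : ∀ x ∈ D, ∀ y ∈ D, x * y = y * x := by
        intro x hx y hy
        have h1 : ⁅x, y⁆ ∈ derivedSeries S (k + 1) := by
          rw [derivedSeries_succ]
          exact commutator_mem_commutator hx hy
        rw [← Nat.succ_eq_add_one, ← hk, hm0, mem_bot] at h1
        exact commutatorElement_eq_one_iff_mul_comm.1 h1
      have hDn : D.Normal := derivedSeries_normal S k
      have hDfin : Finite D := inferInstance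
      have hcard : Nat.card D ≠ 1 := by
        intro e
        exact hDne (Subgroup.card_eq_one.1 e)
      obtain ⟨r, hr, hrd⟩ := Nat.exists_prime_and_dvd hcard
      have := Fact.mk hr
      obtain ⟨d, hd⟩ := exists_prime_orderOf_dvd_card' r hrd
      let R0 : Subgroup S :=
        { carrier := {x | x ∈ D ∧ x ^ r = 1}
          one_mem' := ⟨one_mem _, one_pow _⟩
          mul_mem' := by
            rintro x y ⟨hx, hx'⟩ ⟨hy, hy'⟩
            refine ⟨mul_mem hx hy, ?_⟩
            rw [(show Commute x y from hDab x hx y hy).mul_pow, hx', hy', one_mul]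
          inv_mem' := by
            rintro x ⟨hx, hx'⟩
            exact ⟨inv_mem hx, by rw [inv_pow, hx', inv_one]⟩ }
      refine ⟨R0.map S.subtype, r, hr, ?_, ?_, ?_, ?_⟩
      · rintro _ ⟨x, _, rfl⟩
        exact x.2
      · rintro s hs _ ⟨x, ⟨hx, hx'⟩, rfl⟩
        refine ⟨⟨s, hs⟩ * x * ⟨s, hs⟩⁻¹, ⟨hDn.conj_mem x hx _, ?_⟩, rfl⟩
        rw [conj_pow, hx', mul_one, mul_inv_cancel]
      · intro e
        rw [Subgroup.map_eq_bot_iff_of_injective _ S.subtype_injective] at e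
        have h1 : (d : S) ∈ R0 := ⟨d.2, by
          have := pow_orderOf_eq_one d
          rw [hd] at this
          exact Subtype.ext_iff.1 this⟩
        rw [e, mem_bot] at h1
        have h2 : d = 1 := Subtype.ext h1
        rw [h2, orderOf_one] at hd
        exact hr.one_lt.ne hd
      · rintro ⟨_, x, ⟨hx, hx'⟩, rfl⟩
        refine ⟨1, ?_⟩
        rw [pow_one]
        apply Subtype.ext
        show (S.subtype x) ^ r = 1
        rw [← map_pow, hx', map_one]
    have := Fact.mk hr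
    -- the fixed points of `R`
    have hfix : ∀ n : N, (∀ ρ ∈ R, ρ n = n) → n = 1 := by
      let C : Subgroup N :=
        { carrier := {n | ∀ ρ ∈ R, ρ n = n}
          one_mem' := fun ρ _ => map_one ρ
          mul_mem' := fun {x y} hx hy ρ hρ => by rw [map_mul, hx ρ hρ, hy ρ hρ]
          inv_mem' := fun {x} hx ρ hρ => by rw [map_inv, hx ρ hρ] }
      rcases hirr C (fun s hs n hn ρ hρ => by
        have h1 := hRn s⁻¹ (inv_mem hs) ρ hρ
        rw [inv_inv] at h1
        have h2 := hn _ h1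
        have h3 : s ((s⁻¹ * ρ * s) n) = s n := by rw [h2]
        rw [MulAut.mul_apply, MulAut.mul_apply, MulAut.apply_inv_self] at h3
        exact h3) with h1 | h1
      · intro n hn
        have : n ∈ C := hn
        rw [h1, mem_bot] at this
        exact this
      · exfalso
        apply hRne
        rw [Subgroup.eq_bot_iff_forall]
        intro ρ hρ
        ext n
        have : n ∈ C := by rw [h1]; exact mem_top _
        exact this ρ hρ
    exact reg_core S R hr hRn hRp hfix hirr a b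


theorem mem_sup_norm {M N : Subgroup G} (hMN : ∀ m ∈ M, ∀ n ∈ N, m * n * m⁻¹ ∈ N) {x : G} (hx : x ∈ M ⊔ N) :
    ∃ n ∈ N, ∃ m ∈ M, x = n * m := by
  let T : Subgroup G :=
    { carrier := {g | ∃ n ∈ N, ∃ m ∈ M, g = n * m}
      one_mem' := ⟨1, one_mem _, 1, one_mem _, (one_mul 1).symm⟩
      mul_mem' := by
        rintro g₁ g₂ ⟨k₁, hk₁, m₁, hm₁, e₁⟩ ⟨k₂, hk₂, m₂, hm₂, e₂⟩
        refine ⟨k₁ * (m₁ * k₂ * m₁⁻¹), mul_mem hk₁ (hMN _ hm₁ _ hk₂), m₁ * m₂, mul_mem hm₁ hm₂, ?_⟩
        rw [e₁, e₂]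
        group
      inv_mem' := by
        rintro g ⟨k, hk, m, hm, e⟩
        refine ⟨m⁻¹ * k⁻¹ * m⁻¹⁻¹, hMN _ (inv_mem hm) _ (inv_mem hk), m⁻¹, inv_mem hm, ?_⟩
        rw [e]
        group }
  have h3 : M ⊔ N ≤ T := by
    apply sup_le
    · intro m hm
      exact ⟨1, one_mem _, m, hm, (one_mul m).symm⟩
    · intro k hk
      exact ⟨k, hk, 1, one_mem _, (mul_one k).symm⟩
  exact h3 hx

/-- A solvable group `M` acting irreducibly on `N`: `N` is elementary abelian. -/
theorem reg_sub [Finite G] {M N : Subgroup G} (hMN : ∀ m ∈ M, ∀ n ∈ N, m * n * m⁻¹ ∈ N) (hM : Group.IsSolvable M)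
    (hirr : ∀ L : Subgroup G, L ≤ N → (∀ m ∈ M, ∀ l ∈ L, m * l * m⁻¹ ∈ L) → L = ⊥ ∨ L = N) (hN : N ≠ ⊥) :
    (∀ a ∈ N, ∀ b ∈ N, a * b = b * a) ∧ ∃ r : ℕ, r.Prime ∧ ∀ a ∈ N, a ^ r = 1 := by
  have hle : M ≤ Subgroup.normalizer (N : Set G) := by
    intro m hm
    rw [Subgroup.mem_normalizer_iff]
    intro n
    constructor
    · exact hMN m hm n
    · intro hn
      have := hMN m⁻¹ (inv_mem hm) _ hn
      have e : m⁻¹ * (m * n * m⁻¹) * m⁻¹⁻¹ = n := by group
      rwa [e] at this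
  let φ : M →* MulAut N := (N.normalizerMonoidHom).comp (inclusion hle)
  have hφ : ∀ (m : M) (n : N), ((φ m n : N) : G) = m * n * (m : G)⁻¹ := fun m n => rfl
  have hS : Group.IsSolvable φ.range := Group.isSolvable_of_surjective φ.rangeRestrict_surjective
  have hc := reg_comm φ.range hS (by
    intro L hL
    rcases hirr (L.map N.subtype) (by rintro _ ⟨l, _, rfl⟩; exact l.2) (by
      rintro m hm _ ⟨l, hl, rfl⟩
      exact ⟨_, hL _ ⟨⟨m, hm⟩, rfl⟩ l hl, rfl⟩) with h1 | h1
    · left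
      rwa [Subgroup.map_eq_bot_iff_of_injective _ N.subtype_injective] at h1
    · right
      rw [Subgroup.eq_top_iff']
      intro x
      have h2 : (x : G) ∈ L.map N.subtype := by rw [h1]; exact x.2
      obtain ⟨y, hy, e⟩ := h2
      have : y = x := Subtype.ext e
      rwa [← this])
  have hab : ∀ a ∈ N, ∀ b ∈ N, a * b = b * a := fun a ha b hb => Subtype.ext_iff.1 (hc ⟨a, ha⟩ ⟨b, hb⟩)
  refine ⟨hab, ?_⟩
  have hcard : Nat.card N ≠ 1 := fun e => hN (Subgroup.card_eq_one.1 e)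
  obtain ⟨r, hr, hrd⟩ := Nat.exists_prime_and_dvd hcard
  have := Fact.mk hr
  obtain ⟨d, hd⟩ := exists_prime_orderOf_dvd_card' r hrd
  let L : Subgroup G :=
    { carrier := {x | x ∈ N ∧ x ^ r = 1}
      one_mem' := ⟨one_mem _, one_pow _⟩
      mul_mem' := by
        rintro x y ⟨hx, hx'⟩ ⟨hy, hy'⟩
        refine ⟨mul_mem hx hy, ?_⟩
        rw [(show Commute x y from hab x hx y hy).mul_pow, hx', hy', one_mul]
      inv_mem' := by
        rintro x ⟨hx, hx'⟩
        exact ⟨inv_mem hx, by rw [inv_pow, hx', inv_one]⟩ }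
  refine ⟨r, hr, ?_⟩
  rcases hirr L (fun x hx => hx.1) (by
    rintro m hm l ⟨hl, hl'⟩
    exact ⟨hMN m hm l hl, by rw [conj_pow, hl', mul_one, mul_inv_cancel]⟩) with h1 | h1
  · exfalso
    have h2 : (d : G) ∈ L := ⟨d.2, by
      have := pow_orderOf_eq_one d
      rw [hd] at this
      exact Subtype.ext_iff.1 this⟩
    rw [h1, mem_bot] at h2
    have h3 : d = 1 := Subtype.ext h2
    rw [h3, orderOf_one] at hd
    exact hr.one_lt.ne hd
  · intro a ha
    rw [← h1] at ha
    exact ha.2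

namespace EP

variable {H : Subgroup G} (h : EP H) {T : Subgroup G} [hTn : T.Normal]

include h

theorem T_not_le (hT : T ≠ ⊥) : ¬ T ≤ H := fun e =>
  hT (le_bot_iff.1 (by rw [← h.core]; exact Subgroup.normal_le_normalCore.2 e))

theorem sup_T (hT : T ≠ ⊥) : H ⊔ T = ⊤ := by
  apply h.max.2
  rw [left_lt_sup]
  exact h.T_not_le hT

theorem exists_T (hT : T ≠ ⊥) (g : G) : ∃ t ∈ T, ∃ a ∈ H, g = t * a :=
  mem_sup_norm (fun m _ n hn => hTn.conj_mem n hn m) (by rw [h.sup_T hT]; exact mem_top g)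

/-- **(F2)** `T` is primitive: `A = H ∩ T` is maximal in `T`. -/
theorem T_max [Finite G] (hA : H ⊓ T ≠ ⊥) {L : Subgroup G} (h1 : H ⊓ T ≤ L) (h2 : L ≤ T) :
    L = H ⊓ T ∨ L = T := by
  have hAn : ∀ g ∈ H, ∀ k ∈ H ⊓ T, g * k * g⁻¹ ∈ H ⊓ T := fun g hg k hk =>
    ⟨H.mul_mem (H.mul_mem hg (mem_inf.1 hk).1) (H.inv_mem hg), hTn.conj_mem k (mem_inf.1 hk).2 g⟩
  have hLn : ∀ g ∈ H, ∀ l ∈ L, g * l * g⁻¹ ∈ L := by
    intro g hg l hl
    by_cases hlH : l ∈ H
    · exact h1 (hAn g hg l ⟨hlH, h2 hl⟩)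
    · obtain ⟨a, ha, m, hm, e⟩ := h.fac inf_le_left hAn hA hlH hg
      have hm2 : l⁻¹ * m * l ∈ H := mem_cj.1 (mem_inf.1 hm).2
      have e2 : g * l * g⁻¹ = (a * l) * (l⁻¹ * m * l * g⁻¹) := by
        rw [e]; group
      rw [e2]
      refine mul_mem (mul_mem (h1 ha) hl) (h1 ⟨H.mul_mem hm2 (H.inv_mem hg), ?_⟩)
      have h3 : g * l * g⁻¹ ∈ T := hTn.conj_mem l (h2 hl) g
      rw [e2] at h3
      exact (Subgroup.mul_mem_cancel_left T (mul_mem (mem_inf.1 ha).2 (h2 hl))).1 h3
  by_cases hL : L = H ⊓ T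
  · exact Or.inl hL
  · right
    apply le_antisymm h2
    have h3 : H ⊔ L = ⊤ := by
      apply h.max.2
      rw [left_lt_sup]
      intro e
      exact hL (le_antisymm (le_inf e h2) h1)
    intro t ht
    obtain ⟨l, hl, a, ha, e⟩ := mem_sup_norm hLn (x := t) (by rw [h3]; exact mem_top _)
    rw [e]
    refine mul_mem hl (h1 ⟨ha, ?_⟩)
    rw [e] at ht
    exact (Subgroup.mul_mem_cancel_left T (h2 hl)).1 ht

/-- every `H`-coset representative can be taken in `T` -/
theorem exists_cj_T (hT : T ≠ ⊥) (x : G) : ∃ t ∈ T, cj x H = cj t H ∧ (x ∉ H → t ∉ H) := by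
  obtain ⟨t, ht, a, ha, e⟩ := h.exists_T hT x
  refine ⟨t, ht, ?_, ?_⟩
  · rw [e, cj_mul, cj_eq_self ha]
  · intro hx htH
    exact hx (e ▸ mul_mem htH ha)

omit h in
/-- `H ⊓ T` is solvable-free: a subgroup meeting `T` trivially is solvable if `G/T` is. -/
theorem _root_.Cfsg.Agent.H284.solv_of_inf {T : Subgroup G} [T.Normal] (hsol : Group.IsSolvable (G ⧸ T))
    {M : Subgroup G} (hM : M ⊓ T = ⊥) : Group.IsSolvable M := by
  refine Group.isSolvable_of_isSolvable_injective (f := (QuotientGroup.mk' T).comp M.subtype) ?_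
  rw [injective_iff_map_eq_one]
  intro a ha
  have h1 : (a : G) ∈ T := (QuotientGroup.eq_one_iff _).1 ha
  have h2 : (a : G) ∈ M ⊓ T := ⟨a.2, h1⟩
  rw [hM, mem_bot] at h2
  exact Subtype.ext h2

/-- **(F3a)** `A = H ∩ T ≠ 1` -/
theorem inf_T_ne_bot [Finite G] (hsol : Group.IsSolvable (G ⧸ T)) (hT : T ≠ ⊥) (hTs : ¬ ∀ a ∈ T, ∀ b ∈ T, a * b = b * a) :
    H ⊓ T ≠ ⊥ := by
  intro hA
  apply hTs
  refine (reg_sub (M := H) (N := T) (fun m _ n hn => hTn.conj_mem n hn m) (solv_of_inf hsol hA) ?_ hT).1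
  intro L hL hLn
  by_cases hLH : L ≤ H
  · left
    exact le_bot_iff.1 (hA ▸ le_inf hLH hL)
  · right
    apply le_antisymm hL
    have h3 : H ⊔ L = ⊤ := by
      apply h.max.2
      rw [left_lt_sup]
      exact hLH
    intro t ht
    obtain ⟨l, hl, a, ha, e⟩ := mem_sup_norm hLn (x := t) (by rw [h3]; exact mem_top _)
    have h4 : a ∈ H ⊓ T := by
      refine ⟨ha, ?_⟩
      rw [e] at ht
      exact (Subgroup.mul_mem_cancel_left T (hL hl)).1 ht
    rw [hA, mem_bot] at h4
    rw [e, h4, mul_one]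
    exact hl

/-- `N_T(A) = A` for `T` simple -/
theorem norm_A [Finite G] (hTsim : IsSimpleGroup T) (hA : H ⊓ T ≠ ⊥) {t : G} (ht : t ∈ T)
    (hn : ∀ a ∈ H ⊓ T, t * a * t⁻¹ ∈ H ⊓ T) : t ∈ H := by
  have hT : T ≠ ⊥ := fun e => hA (by rw [e, inf_bot_eq])
  have hgn : ∀ g : G, (∀ k ∈ H ⊓ T, g * k * g⁻¹ ∈ H ⊓ T) → ∀ k ∈ H ⊓ T, g⁻¹ * k * g⁻¹⁻¹ ∈ H ⊓ T := by
    intro g hg k hk
    have h1 : cj g (H ⊓ T) = H ⊓ T := by
      apply Subgroup.eq_of_le_of_card_ge
      · rintro _ ⟨k, hk, rfl⟩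
        exact hg k hk
      · rw [card_cj]
    rw [← h1, mem_cj] at hk
    rwa [inv_inv]
  let L : Subgroup G :=
    { carrier := {g | g ∈ T ∧ ∀ k ∈ H ⊓ T, g * k * g⁻¹ ∈ H ⊓ T}
      one_mem' := ⟨one_mem _, fun k hk => by rwa [one_mul, inv_one, mul_one]⟩
      mul_mem' := by
        rintro g₁ g₂ ⟨h1, h2⟩ ⟨h3, h4⟩
        refine ⟨mul_mem h1 h3, fun k hk => ?_⟩
        have := h2 _ (h4 k hk)
        have e : g₁ * g₂ * k * (g₁ * g₂)⁻¹ = g₁ * (g₂ * k * g₂⁻¹) * g₁⁻¹ := by group
        rwa [e]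
      inv_mem' := by
        rintro g ⟨h1, h2⟩
        exact ⟨inv_mem h1, hgn g h2⟩ }
  rcases h.T_max hA (L := L) (fun g hg => ⟨(mem_inf.1 hg).2, fun k hk => mul_mem (mul_mem hg hk) (inv_mem hg)⟩)
    (fun g hg => hg.1) with h1 | h1
  · have : t ∈ L := ⟨ht, hn⟩
    rw [h1] at this
    exact (mem_inf.1 this).1
  · exfalso
    have h2 : ((H ⊓ T).subgroupOf T).Normal := by
      constructor
      intro a ha g
      have hg : (g : G) ∈ L := by rw [h1]; exact g.2
      exact hg.2 _ ha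
    rcases h2.eq_bot_or_eq_top with h3 | h3
    · apply hA
      rw [Subgroup.eq_bot_iff_forall]
      intro x hx
      have : (⟨x, (mem_inf.1 hx).2⟩ : T) ∈ (H ⊓ T).subgroupOf T := hx
      rw [h3, mem_bot] at this
      exact Subtype.ext_iff.1 this
    · apply h.T_not_le hT
      intro x hx
      have : (⟨x, hx⟩ : T) ∈ (H ⊓ T).subgroupOf T := by rw [h3]; exact mem_top _
      exact (mem_inf.1 this).1

/-- `A` is not an elementary abelian group (Burnside's transfer theorem) -/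
theorem A_not_abelian [Finite G] (hTsim : IsSimpleGroup T)
    (hA : H ⊓ T ≠ ⊥) {r : ℕ} (hr : r.Prime) (hab : ∀ a ∈ H ⊓ T, ∀ b ∈ H ⊓ T, a * b = b * a)
    (hexp : ∀ a ∈ H ⊓ T, a ^ r = 1) : False := by
  have := Fact.mk hr
  have hT : T ≠ ⊥ := fun e => hA (by rw [e, inf_bot_eq])
  have hAp : IsPGroup r ((H ⊓ T).subgroupOf T) := by
    rintro ⟨x, hx⟩
    refine ⟨1, ?_⟩
    rw [pow_one]
    apply Subtype.ext
    apply Subtype.ext
    exact hexp _ hx
  obtain ⟨P, hP⟩ := hAp.exists_le_sylow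
  -- `A` is a Sylow subgroup
  have hAP : (H ⊓ T).subgroupOf T = (P : Subgroup T) := by
    by_contra hne
    have hlt : (H ⊓ T).subgroupOf T < (P : Subgroup T) := lt_of_le_of_ne hP hne
    -- normalizer growth in `P`
    have h1 : ((H ⊓ T).subgroupOf T).subgroupOf (P : Subgroup T) < ⊤ := by
      rw [lt_top_iff_ne_top]
      intro e
      rw [Subgroup.subgroupOf_eq_top] at e
      exact hlt.not_ge e
    have hnil : Group.IsNilpotent (P : Subgroup T) := P.isPGroup'.isNilpotent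
    have h2 := Group.normalizerCondition_of_isNilpotent (G := (P : Subgroup T)) _ h1
    obtain ⟨y, hy, hyn⟩ := SetLike.exists_of_lt h2
    apply hyn
    have h3 : ((y : T) : G) ∈ H := by
      apply h.norm_A hTsim hA (y : T).2
      intro a ha
      have h4 : (⟨⟨a, (mem_inf.1 ha).2⟩, hP ha⟩ : (P : Subgroup T)) ∈
          ((H ⊓ T).subgroupOf T).subgroupOf (P : Subgroup T) := ha
      exact (Subgroup.mem_normalizer_iff.1 hy _).1 h4
    exact ⟨h3, (y : T).2⟩
  have hcomp : Subgroup.IsComplement' (MonoidHom.transferSylow P (by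
      intro y hy
      rw [Subgroup.mem_centralizer_iff]
      replace hy : y ∈ Subgroup.normalizer ((P : Subgroup T) : Set T) := hy
      rw [Subgroup.mem_normalizer_iff] at hy
      have h3 : (y : G) ∈ H := by
        apply h.norm_A hTsim hA y.2
        intro a ha
        have h4 : (⟨a, (mem_inf.1 ha).2⟩ : T) ∈ (P : Subgroup T) := hP ha
        have h5 := (hy _).1 h4
        rw [← hAP] at h5
        exact h5
      intro z hz
      have hz' : z ∈ (P : Subgroup T) := hz
      rw [← hAP] at hz'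
      apply Subtype.ext
      exact hab _ hz' _ ⟨h3, y.2⟩)).ker (P : Subgroup T) := MonoidHom.ker_transferSylow_isComplement' P _
  rcases (MonoidHom.normal_ker (MonoidHom.transferSylow P _)).eq_bot_or_eq_top with h3 | h3
  · rw [h3, Subgroup.isComplement'_bot_left] at hcomp
    rw [← hAP, Subgroup.subgroupOf_eq_top] at hcomp
    exact h.T_not_le hT (hcomp.trans inf_le_left)
  · rw [h3, Subgroup.isComplement'_top_left] at hcomp
    rw [← hAP] at hcomp
    apply hA
    rw [Subgroup.eq_bot_iff_forall]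
    intro x hx
    have : (⟨x, (mem_inf.1 hx).2⟩ : T) ∈ (H ⊓ T).subgroupOf T := hx
    rw [hcomp, mem_bot] at this
    exact Subtype.ext_iff.1 this

/-- **(F3b)** `M0 = A ∩ A^x ≠ 1` -/
theorem M0_ne_bot [Finite G] (hsol : Group.IsSolvable (G ⧸ T)) (hTsim : IsSimpleGroup T)
    (hTs : ¬ ∀ a ∈ T, ∀ b ∈ T, a * b = b * a) {x : G} (hx : x ∉ H) : H ⊓ cj x H ⊓ T ≠ ⊥ := by
  intro hM
  have hT : T ≠ ⊥ := by
    intro e
    apply hTs
    intro a ha b hb
    rw [e, mem_bot] at ha hb
    rw [ha, hb]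
  have hA := h.inf_T_ne_bot hsol hT hTs
  have hAn : ∀ g ∈ H, ∀ k ∈ H ⊓ T, g * k * g⁻¹ ∈ H ⊓ T := fun g hg k hk =>
    ⟨H.mul_mem (H.mul_mem hg (mem_inf.1 hk).1) (H.inv_mem hg), hTn.conj_mem k (mem_inf.1 hk).2 g⟩
  obtain ⟨h1, r, hr, h2⟩ := reg_sub (M := H ⊓ cj x H) (N := H ⊓ T) (fun m hm n hn => hAn m (mem_inf.1 hm).1 n hn)
    (solv_of_inf hsol hM) (by
      intro L hL hLn
      rcases h.two x hx ((H ⊓ cj x H) ⊔ L) le_sup_left (sup_le inf_le_left (hL.trans inf_le_left)) with h3 | h3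
      · left
        have h4 : L ≤ H ⊓ cj x H ⊓ T := le_inf (le_sup_right.trans h3.le) (hL.trans inf_le_right)
        exact le_bot_iff.1 (hM ▸ h4)
      · right
        apply le_antisymm hL
        intro a ha
        obtain ⟨l, hl, m, hm, e⟩ := mem_sup_norm hLn (x := a) (by rw [h3]; exact (mem_inf.1 ha).1)
        have h4 : m ∈ H ⊓ cj x H ⊓ T := by
          refine ⟨hm, ?_⟩
          have h5 := (mem_inf.1 ha).2
          rw [e] at h5
          exact (Subgroup.mul_mem_cancel_left T (mem_inf.1 (hL hl)).2).1 h5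
        rw [hM, mem_bot] at h4
        rw [e, h4, mul_one]
        exact hl) hA
  exact h.A_not_abelian hTsim hA hr h1 h2

end EP

end Cfsg.Agent.H284
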