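import Cfsg.Agent.H284.EP.TForm

/-!
# Extremely primitive groups: counting criteria (helper284; facts of helper598, helper902, helper67)

* `EPA.line_bound`, `EPA.card_eq_sum` (lines), `EPA.LP` (local principle);
* expectation criterion `expectation`;
* `PS`: the prime Sylow criterion.
-/

set_option autoImplicit false
set_option linter.unusedSectionVars false

namespace Cfsg.Agent.H284

open MulAction Subgroup

variable {G : Type*} [Group G] {Ω : Type*} [MulAction G Ω]

/-- the points fixed by `M` -/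
def fixPts (Ω : Type*) [MulAction G Ω] (M : Subgroup G) : Set Ω := {c | M ≤ stabilizer G c}

theorem mem_fixPts {M : Subgroup G} {c : Ω} : c ∈ fixPts Ω M ↔ M ≤ stabilizer G c := Iff.rfl

open Classical in
theorem ncard_fixPts [Fintype Ω] (M : Subgroup G) :
    (fixPts Ω M).ncard = (Finset.univ.filter fun c : Ω => M ≤ stabilizer G c).card := by
  rw [Set.ncard_eq_toFinset_card']
  congr 1
  ext c
  rw [Set.mem_toFinset, Finset.mem_filter]
  exact ⟨fun h => ⟨Finset.mem_univ _, h⟩, fun h => h.2⟩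

theorem cj_le_cj {x : G} {H K : Subgroup G} : cj x H ≤ cj x K ↔ H ≤ K := by
  constructor
  · intro h
    have := cj_mono (x := x⁻¹) h
    rwa [cj_inv_cj, cj_inv_cj] at this
  · exact cj_mono

theorem smul_mem_fixPts {M : Subgroup G} {c : Ω} {g : G} : g • c ∈ fixPts Ω (cj g M) ↔ c ∈ fixPts Ω M := by
  rw [mem_fixPts, mem_fixPts, stab_smul, cj_le_cj]

namespace EPA

/-- the lines through `a` whose group contains `D` -/
def linesD (D : Subgroup G) (a : Ω) : Set (Subgroup G) := {M | M ∈ lines G a ∧ D ≤ M}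

theorem cj_mem_lines {a : Ω} {M : Subgroup G} (g : G) : cj g M ∈ lines G (g • a) ↔ M ∈ lines G a := by
  have key : ∀ (g : G) (a : Ω) (M : Subgroup G), M ∈ lines G a → cj g M ∈ lines G (g • a) := by
    rintro g a _ ⟨b, hb, rfl⟩
    refine ⟨g • b, fun e => hb (smul_left_cancel g e), ?_⟩
    rw [cj_inf, stab_smul, stab_smul]
  constructor
  · intro h
    have := key g⁻¹ _ _ h
    rwa [inv_smul_smul, cj_inv_cj] at this
  · exact key g a M

theorem ncard_linesD [Finite G] (D : Subgroup G) (a : Ω) (g : G) :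
    (linesD (cj g D) (g • a)).ncard = (linesD D a).ncard := by
  symm
  refine Set.ncard_congr (fun M _ => cj g M) ?_ ?_ ?_
  · rintro M ⟨h1, h2⟩
    exact ⟨(cj_mem_lines g).2 h1, cj_mono h2⟩
  · intro M N _ _ e
    have : cj g⁻¹ (cj g M) = cj g⁻¹ (cj g N) := congrArg _ e
    rwa [cj_inv_cj, cj_inv_cj] at this
  · rintro M ⟨h1, h2⟩
    refine ⟨cj g⁻¹ M, ⟨?_, ?_⟩, cj_cj_inv _ _⟩
    · rw [← cj_mem_lines g, cj_cj_inv]
      exact h1
    · rw [← cj_le_cj (x := g), cj_cj_inv]
      exact h2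

variable (h : EPA G Ω)

include h

/-- **line bound**: for a point `c` of `fix(D)` off the line `fix(M)`, `D ≤ M` -/
theorem line_bound [Finite G] [Finite Ω] [FaithfulSMul G Ω] {a : Ω} {M D : Subgroup G} (hM : M ∈ lines G a)
    (hDM : D ≤ M) {c : Ω} (hc : D ≤ stabilizer G c) (hcM : ¬ M ≤ stabilizer G c) :
    (fixPts Ω M).ncard ≤ (linesD D c).ncard := by
  obtain ⟨b, hb, rfl⟩ := hM
  refine Set.ncard_le_ncard_of_injOn (fun d => stabilizer G c ⊓ stabilizer G d) ?_ ?_ (Set.toFinite _)
  · intro d hd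
    refine ⟨⟨d, fun e => hcM (e ▸ hd), rfl⟩, le_inf hc (hDM.trans hd)⟩
  · intro d hd d' hd' e
    by_contra hne
    apply hcM
    have e' : stabilizer G c ⊓ stabilizer G d = stabilizer G c ⊓ stabilizer G d' := e
    have h1 := h.line_eq (a := c) (b := d) (c := d) (d := d') (fun e => hcM (e ▸ hd)) hne inf_le_right
      (by rw [e']; exact inf_le_right)
    have h2 := h.line_eq hb hne hd hd'
    rw [← h2, h1]
    exact inf_le_left

/-- the points are `a` and the points `≠ a` of the lines through `a` -/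
theorem card_eq_sum [Finite G] [Finite Ω] [FaithfulSMul G Ω] (a : Ω) :
    Nat.card Ω = 1 + ∑ᶠ M ∈ lines G a, ((fixPts Ω M).ncard - 1) := by
  classical
  have := Fintype.ofFinite Ω
  have hfin : (lines G a).Finite := Set.toFinite _
  rw [finsum_mem_eq_finite_toFinset_sum _ hfin]
  have h1 : (Finset.univ.erase a : Finset Ω).card =
      ∑ M ∈ hfin.toFinset, ((Finset.univ.filter fun c : Ω => M ≤ stabilizer G c).erase a).card := by
    rw [← Finset.card_biUnion]
    · congr 1
      ext b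
      rw [Finset.mem_erase, Finset.mem_biUnion]
      constructor
      · intro hb
        refine ⟨stabilizer G a ⊓ stabilizer G b, ?_, ?_⟩
        · rw [Set.Finite.mem_toFinset]
          exact ⟨b, hb.1, rfl⟩
        · rw [Finset.mem_erase, Finset.mem_filter]
          exact ⟨hb.1, Finset.mem_univ _, inf_le_right⟩
      · rintro ⟨M, _, hM⟩
        rw [Finset.mem_erase] at hM
        exact ⟨hM.1, Finset.mem_univ _⟩
    · intro M hM N hN hMN
      rw [Function.onFun, Finset.disjoint_left]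
      intro c hc hc'
      apply hMN
      rw [SetLike.mem_coe, Set.Finite.mem_toFinset] at hM hN
      rw [Finset.mem_erase, Finset.mem_filter] at hc hc'
      obtain ⟨b, hb, rfl⟩ := hM
      obtain ⟨d, hd, rfl⟩ := hN
      rw [← h.stab_eq hb hc.1 hc.2.2, ← h.stab_eq hd hc'.1 hc'.2.2]
  have h2 : ∀ M ∈ hfin.toFinset, ((Finset.univ.filter fun c : Ω => M ≤ stabilizer G c).erase a).card =
      (fixPts Ω M).ncard - 1 := by
    intro M hM
    rw [Set.Finite.mem_toFinset] at hM
    obtain ⟨b, hb, rfl⟩ := hM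
    rw [Finset.card_erase_of_mem]
    · congr 1
      rw [ncard_fixPts]
    · rw [Finset.mem_filter]
      exact ⟨Finset.mem_univ _, inf_le_left⟩
  rw [← Finset.sum_congr rfl h2, ← h1, Finset.card_erase_of_mem (Finset.mem_univ a), Finset.card_univ,
    Nat.card_eq_fintype_card]
  have : 0 < Fintype.card Ω := Fintype.card_pos_iff.2 ⟨a⟩
  omega

/-- a bound for the fixed points of `D` when all lines in `fix(D)` through `a` have at most `k + 1` points -/
theorem fix_le_of_lines [Finite G] [Finite Ω] [FaithfulSMul G Ω] {a : Ω} {D : Subgroup G} (hD : D ≤ stabilizer G a)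
    {k : ℕ} (hk : ∀ M ∈ linesD D a, (fixPts Ω M).ncard ≤ k + 1) :
    (fixPts Ω D).ncard ≤ 1 + (linesD D a).ncard * k := by
  classical
  have := Fintype.ofFinite Ω
  have hfin : (linesD D a).Finite := Set.toFinite _
  have h1 : ((Finset.univ.filter fun c : Ω => D ≤ stabilizer G c).erase a).card ≤
      ∑ M ∈ hfin.toFinset, ((Finset.univ.filter fun c : Ω => M ≤ stabilizer G c).erase a).card := by
    refine le_trans (Finset.card_le_card ?_) Finset.card_biUnion_le
    intro b hb
    rw [Finset.mem_erase, Finset.mem_filter] at hb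
    rw [Finset.mem_biUnion]
    refine ⟨stabilizer G a ⊓ stabilizer G b, ?_, ?_⟩
    · rw [Set.Finite.mem_toFinset]
      exact ⟨⟨b, hb.1, rfl⟩, le_inf hD hb.2.2⟩
    · rw [Finset.mem_erase, Finset.mem_filter]
      exact ⟨hb.1, Finset.mem_univ _, inf_le_right⟩
  have h2 : ∀ M ∈ hfin.toFinset, ((Finset.univ.filter fun c : Ω => M ≤ stabilizer G c).erase a).card ≤ k := by
    intro M hM
    rw [Set.Finite.mem_toFinset] at hM
    have h3 := hk M hM
    obtain ⟨⟨b, hb, rfl⟩, -⟩ := hM
    rw [Finset.card_erase_of_mem]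
    · rw [ncard_fixPts] at h3
      omega
    · rw [Finset.mem_filter]
      exact ⟨Finset.mem_univ _, inf_le_left⟩
  have h4 := h1.trans (Finset.sum_le_card_nsmul _ _ _ h2)
  rw [Finset.card_erase_of_mem (by rw [Finset.mem_filter]; exact ⟨Finset.mem_univ _, hD⟩), smul_eq_mul,
    ← Set.ncard_eq_toFinset_card _ hfin] at h4
  rw [ncard_fixPts]
  omega

/-- **(LP)** the local principle -/
theorem LP [Finite G] [Finite Ω] [FaithfulSMul G Ω] {a : Ω} {D C : Subgroup G} (hD : D ≤ stabilizer G a)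
    (hC : ∀ c ∈ C, cj c D = D) :
    C ≤ stabilizer G a ∨ (∃ M ∈ linesD D a, ∀ c ∈ C, cj c M = M) ∨
      (fixPts Ω D).ncard ≤ 1 + (linesD D a).ncard * ((linesD D a).ncard - 1) := by
  by_cases h1 : C ≤ stabilizer G a
  · exact Or.inl h1
  right
  by_cases h2 : ∃ M ∈ linesD D a, ∀ c ∈ C, cj c M = M
  · exact Or.inl h2
  right
  apply h.fix_le_of_lines hD
  intro M hM
  have h3 : ∃ c ∈ C, ¬ M ≤ stabilizer G (c • a) := by
    by_contra hcon
    push Not at hcon
    apply h2
    refine ⟨M, hM, ?_⟩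
    obtain ⟨c₀, hc₀, hc₀a⟩ := Set.not_subset.1 h1
    have hne : c₀ • a ≠ a := hc₀a
    obtain ⟨⟨b, hb, rfl⟩, _⟩ := hM
    have h4 := h.line_eq hb hne.symm (c := a) (d := c₀ • a) inf_le_left (hcon c₀ hc₀)
    intro c hc
    have h5 := h.line_eq hb (c := c • a) (d := c • (c₀ • a)) (fun e => hne (smul_left_cancel c e.symm)) (hcon c hc)
      (by rw [← mul_smul]; exact hcon _ (C.mul_mem hc hc₀))
    conv_lhs => rw [← h4]
    rw [cj_inf, ← stab_smul, ← stab_smul, h5]
  obtain ⟨c, hc, hcM⟩ := h3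
  have h4 := h.line_bound hM.1 hM.2 (c := c • a) (by
    rw [stab_smul, ← hC c hc]
    exact cj_mono hD) hcM
  have h5 : (linesD D (c • a)).ncard = (linesD D a).ncard := by
    have := ncard_linesD D a c
    rwa [hC c hc] at this
  rw [h5] at h4
  omega

end EPA

/-! ### group form -/

namespace EP

variable {H : Subgroup G}

/-- the two point stabilisers `H ∩ H^x` containing `D` -/
def twoSetD (H D : Subgroup G) : Set (Subgroup G) := {M | M ∈ twoSet H ∧ D ≤ M}

theorem twoSetD_eq (H D : Subgroup G) : EPA.linesD D ((1 : G) : G ⧸ H) = twoSetD H D := by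
  rw [EPA.linesD, twoSet_eq]
  rfl

theorem stab_coe (x : G) : stabilizer G (x : G ⧸ H) = cj x H := by
  have h1 : (x : G ⧸ H) = x • ((1 : G) : G ⧸ H) := by
    rw [MulAction.Quotient.smul_coe, smul_eq_mul, mul_one]
  rw [h1, stab_smul, MulAction.stabilizer_quotient]

/-- the number of points of `G/H` fixed by `M` -/
noncomputable def nfix (H M : Subgroup G) : ℕ := {c : G ⧸ H | ∀ m ∈ M, m • c = c}.ncard

theorem nfix_eq (H M : Subgroup G) : nfix H M = (fixPts (G ⧸ H) M).ncard := rfl

variable (h : EP H)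

include h

/-- `|G : H| = 1 + ∑_M (|fix M| - 1)` -/
theorem index_eq_sum [Finite G] : H.index = 1 + ∑ᶠ M ∈ twoSet H, (nfix H M - 1) := by
  have := h.faithful
  have h1 := h.toEPA.card_eq_sum ((1 : G) : G ⧸ H)
  rw [twoSet_eq] at h1
  exact h1

/-- **line bound** -/
theorem line_bound [Finite G] {M D : Subgroup G} (hM : M ∈ twoSet H) (hDM : D ≤ M) {y : G} (hy : D ≤ cj y H)
    (hyM : ¬ M ≤ cj y H) : nfix H M ≤ (twoSetD H (cj y⁻¹ D)).ncard := by
  have := h.faithful
  have h1 := h.toEPA.line_bound (a := ((1 : G) : G ⧸ H)) (M := M) (D := D) (by rw [twoSet_eq]; exact hM) hDM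
    (c := (y : G ⧸ H)) (by rw [stab_coe]; exact hy) (by rw [stab_coe]; exact hyM)
  have h2 := EPA.ncard_linesD (G := G) (Ω := G ⧸ H) D (y : G ⧸ H) y⁻¹
  rw [MulAction.Quotient.smul_coe, smul_eq_mul, inv_mul_cancel, twoSetD_eq] at h2
  rw [nfix_eq, h2]
  exact h1

/-- **(LP)** the local principle. -/
theorem LP [Finite G] {D C : Subgroup G} (hD : D ≤ H) (hC : ∀ c ∈ C, cj c D = D) :
    C ≤ H ∨ (∃ M ∈ twoSetD H D, ∀ c ∈ C, cj c M = M) ∨
      (nfix H D ≤ 1 + (twoSetD H D).ncard * ((twoSetD H D).ncard - 1) ∧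
        H.relIndex C ≤ 1 + (twoSetD H D).ncard * ((twoSetD H D).ncard - 1)) := by
  have := h.faithful
  have h1 := h.toEPA.LP (a := ((1 : G) : G ⧸ H)) (D := D) (C := C)
    (by rw [MulAction.stabilizer_quotient]; exact hD) hC
  rw [MulAction.stabilizer_quotient, twoSetD_eq] at h1
  rcases h1 with h1 | h1 | h1
  · exact Or.inl h1
  · exact Or.inr (Or.inl h1)
  · refine Or.inr (Or.inr ⟨h1, le_trans ?_ h1⟩)
    have h2 : H.relIndex C = Nat.card (orbit C ((1 : G) : G ⧸ H)) := by
      rw [Subgroup.relIndex, Subgroup.index]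
      have h3 : H.subgroupOf C = stabilizer C ((1 : G) : G ⧸ H) := by
        ext c
        have h4 : (c : G) ∈ stabilizer G ((1 : G) : G ⧸ H) ↔ (c : G) ∈ H := by rw [MulAction.stabilizer_quotient]
        exact h4.symm
      rw [h3]
      exact Nat.card_congr (orbitEquivQuotientStabilizer C _).symm
    rw [h2]
    have h3 : orbit C ((1 : G) : G ⧸ H) ⊆ fixPts (G ⧸ H) D := by
      rintro _ ⟨c, rfl⟩
      show D ≤ stabilizer G ((c : G) • ((1 : G) : G ⧸ H))
      rw [MulAction.Quotient.smul_coe, smul_eq_mul, mul_one, stab_coe, ← hC c c.2]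
      exact cj_mono hD
    exact Set.ncard_le_ncard h3 (Set.toFinite _)

end EP

/-- **expectation**: `∑_{x ∈ A, x ≠ 1} #{g : x ∈ gAg⁻¹} ≥ (μ - 1) (|G| - |A|)` if all `|A ∩ gAg⁻¹| ≥ μ`, `g ∉ A`. -/
theorem expectation [Finite G] (A : Subgroup G) {μ : ℕ} (hμ : ∀ g, g ∉ A → μ ≤ Nat.card (A ⊓ cj g A : Subgroup G)) :
    (μ - 1) * (Nat.card G - Nat.card A) ≤ ∑ᶠ x ∈ {x : G | x ∈ A ∧ x ≠ 1}, {g : G | x ∈ cj g A}.ncard := by
  classical
  have := Fintype.ofFinite G
  have hfin : {x : G | x ∈ A ∧ x ≠ 1}.Finite := Set.toFinite _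
  rw [finsum_mem_eq_finite_toFinset_sum _ hfin]
  have h1 : ∑ x ∈ hfin.toFinset, {g : G | x ∈ cj g A}.ncard =
      ∑ g : G, (Nat.card (A ⊓ cj g A : Subgroup G) - 1) := by
    have e1 : ∀ x : G, {g : G | x ∈ cj g A}.ncard = ∑ g : G, if x ∈ cj g A then 1 else 0 := by
      intro x
      rw [Finset.sum_boole, Set.ncard_eq_toFinset_card']
      simp
    have e2 : ∀ g : G, Nat.card (A ⊓ cj g A : Subgroup G) - 1 = ∑ x ∈ hfin.toFinset, if x ∈ cj g A then 1 else 0 := by
      intro g
      rw [Finset.sum_boole]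
      have e3 : Nat.card (A ⊓ cj g A : Subgroup G) = (Finset.univ.filter fun x : G => x ∈ A ⊓ cj g A).card := by
        rw [Nat.card_eq_fintype_card, Fintype.card_subtype]
      have e4 : (Finset.univ.filter fun x : G => x ∈ A ⊓ cj g A).erase 1 =
          (hfin.toFinset.filter fun x => x ∈ cj g A) := by
        ext x
        rw [Finset.mem_erase, Finset.mem_filter, Finset.mem_filter, Set.Finite.mem_toFinset, mem_inf]
        constructor
        · rintro ⟨a1, _, a2, a3⟩
          exact ⟨⟨a2, a1⟩, a3⟩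
        · rintro ⟨⟨a2, a1⟩, a3⟩
          exact ⟨a1, Finset.mem_univ _, a2, a3⟩
      rw [e3, ← e4, Finset.card_erase_of_mem]
      · simp
      · rw [Finset.mem_filter]
        exact ⟨Finset.mem_univ _, one_mem _⟩
    rw [Finset.sum_congr rfl fun x _ => e1 x, Finset.sum_congr rfl fun g _ => e2 g]
    exact Finset.sum_comm
  rw [h1]
  have h2 : (Finset.univ.filter fun g : G => g ∉ A).card = Nat.card G - Nat.card A := by
    have e1 : (Finset.univ.filter fun g : G => g ∉ A).card + (Finset.univ.filter fun g : G => g ∈ A).card =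
        Nat.card G := by
      rw [Nat.card_eq_fintype_card, ← Finset.card_univ, add_comm]
      exact Finset.card_filter_add_card_filter_not _
    have e2 : (Finset.univ.filter fun g : G => g ∈ A).card = Nat.card A := by
      rw [Nat.card_eq_fintype_card, Fintype.card_subtype]
    omega
  calc (μ - 1) * (Nat.card G - Nat.card A) = ∑ _g ∈ Finset.univ.filter fun g : G => g ∉ A, (μ - 1) := by
        rw [Finset.sum_const, h2, smul_eq_mul, mul_comm]
    _ ≤ ∑ g ∈ Finset.univ.filter fun g : G => g ∉ A, (Nat.card (A ⊓ cj g A : Subgroup G) - 1) := by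
        apply Finset.sum_le_sum
        intro g hg
        exact Nat.sub_le_sub_right (hμ g (Finset.mem_filter.1 hg).2) 1
    _ ≤ _ := Finset.sum_le_sum_of_subset (Finset.filter_subset _ _)

end Cfsg.Agent.H284
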