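import Cfsg.Agent.H284.EP.Basic

/-!
# Extremely primitive groups, the abstract engine, part 2 (helper284; facts of helper91, helper67, helper419)

* (F5) `EP.ab_inf`, `EP.ab_card`, `EP.ab_min`, `EP.ab_elem`, `EP.ab_cent`, `EP.ab_index`, `EP.nilp_ab`, `EP.ab_le_T` :
  abelian (nilpotent) normal subgroups of `H`;
* `EP.cent_A` : `C_H(A) = 1`; `EP.norm_char` : (F3) for characteristic subgroups of `M0`; `EP.sylow_M0`;
* `EP.abelian_M0` : if `M0` is abelian then `H` has a nontrivial abelian normal subgroup;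
* (LS) `EPA.ncard_subspace`, `EPA.card_le_sq`, `EP.index_le_sq`, `EP.fix_le`;
* (RL) `EP.RL`, `EP.RLFree`, `EP.RL_criterion`;
* (CL) `EP.CL`, `EP.cl`.
-/

set_option autoImplicit false
set_option linter.unusedSectionVars false

namespace Cfsg.Agent.H284

open MulAction Subgroup
open scoped commutatorElement

variable {G : Type*} [Group G] {Ω : Type*} [MulAction G Ω]


theorem elem_of_irr [Finite G] {M N : Subgroup G} (hMN : ∀ m ∈ M, ∀ n ∈ N, m * n * m⁻¹ ∈ N)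
    (hirr : ∀ L : Subgroup G, L ≤ N → (∀ m ∈ M, ∀ l ∈ L, m * l * m⁻¹ ∈ L) → L = ⊥ ∨ L = N) (hN : N ≠ ⊥)
    (hab : ∀ a ∈ N, ∀ b ∈ N, a * b = b * a) : ∃ r : ℕ, r.Prime ∧ ∀ a ∈ N, a ^ r = 1 := by
  have hcard : Nat.card N ≠ 1 := fun e => hN (Subgroup.card_eq_one.1 e)
  obtain ⟨r, hr, hrd⟩ := Nat.exists_prime_and_dvd hcard
  have := Fact.mk hr
  obtain ⟨d, hd⟩ := exists_prime_orderOf_dvd_card' r hrd
  let L : Subgroup G :=
    { carrier := {x | x ∈ N ∧ x ^ r = 1}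
      one_mem' := ⟨one_mem _, one_pow _⟩
      mul_mem' := by
        rintro x y ⟨hx, hx'⟩ ⟨hy, hy'⟩
        refine ⟨mul_mem hx hy, ?_⟩
        rw [(show Commute x y from hab x hx y hy).mul_pow, hx', hy', one_mul]
      inv_mem' := by
        rintro x ⟨hx, hx'⟩
        exact ⟨inv_mem hx, by rw [inv_pow, hx', inv_one]⟩ }
  refine ⟨r, hr, ?_⟩
  rcases hirr L (fun x hx => hx.1) (by
    rintro m hm l ⟨hl, hl'⟩
    exact ⟨hMN m hm l hl, by rw [conj_pow, hl', mul_one, mul_inv_cancel]⟩) with h1 | h1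
  · exfalso
    have h2 : (d : G) ∈ L := ⟨d.2, by
      have := pow_orderOf_eq_one d
      rw [hd] at this
      exact Subtype.ext_iff.1 this⟩
    rw [h1, mem_bot] at h2
    have h3 : d = 1 := Subtype.ext h2
    rw [h3, orderOf_one] at hd
    exact hr.one_lt.ne hd
  · intro a ha
    rw [← h1] at ha
    exact ha.2

/-- `M` irreducible on `N` with a normal `r`-subgroup `R` without fixed points on `N`: `N` is elementary abelian. -/
theorem reg_core_sub [Finite G] {M N R : Subgroup G} (hMN : ∀ m ∈ M, ∀ n ∈ N, m * n * m⁻¹ ∈ N) (hRM : R ≤ M)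
    (hRn : ∀ m ∈ M, ∀ ρ ∈ R, m * ρ * m⁻¹ ∈ R) {r : ℕ} (hr : r.Prime) (hRp : IsPGroup r R)
    (hfix : ∀ n ∈ N, (∀ ρ ∈ R, ρ * n = n * ρ) → n = 1)
    (hirr : ∀ L : Subgroup G, L ≤ N → (∀ m ∈ M, ∀ l ∈ L, m * l * m⁻¹ ∈ L) → L = ⊥ ∨ L = N) :
    ∀ a ∈ N, ∀ b ∈ N, a * b = b * a := by
  have hle : M ≤ Subgroup.normalizer (N : Set G) := by
    intro m hm
    rw [Subgroup.mem_normalizer_iff]
    intro n
    constructor
    · exact hMN m hm n
    · intro hn
      have := hMN m⁻¹ (inv_mem hm) _ hn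
      have e : m⁻¹ * (m * n * m⁻¹) * m⁻¹⁻¹ = n := by group
      rwa [e] at this
  let φ : M →* MulAut N := (N.normalizerMonoidHom).comp (inclusion hle)
  have hφ : ∀ (m : M) (n : N), ((φ m n : N) : G) = m * n * (m : G)⁻¹ := fun m n => rfl
  have hc := reg_core φ.range ((R.subgroupOf M).map φ) hr (by
    rintro _ ⟨m, rfl⟩ _ ⟨ρ, hρ, rfl⟩
    refine ⟨m * ρ * m⁻¹, hRn m m.2 _ hρ, ?_⟩
    rw [map_mul, map_mul, map_inv]) (by
    apply IsPGroup.map
    exact hRp.of_equiv (Subgroup.subgroupOfEquivOfLe hRM).symm) (by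
    intro n hn
    apply Subtype.ext
    apply hfix n n.2
    intro ρ hρ
    have h1 := hn (φ ⟨ρ, hRM hρ⟩) ⟨⟨ρ, hRM hρ⟩, hρ, rfl⟩
    have h2 := Subtype.ext_iff.1 h1
    rw [hφ] at h2
    exact mul_inv_eq_iff_eq_mul.1 h2) (by
    intro L hL
    rcases hirr (L.map N.subtype) (by rintro _ ⟨l, _, rfl⟩; exact l.2) (by
      rintro m hm _ ⟨l, hl, rfl⟩
      exact ⟨_, hL _ ⟨⟨m, hm⟩, rfl⟩ l hl, rfl⟩) with h1 | h1
    · left
      rwa [Subgroup.map_eq_bot_iff_of_injective _ N.subtype_injective] at h1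
    · right
      rw [Subgroup.eq_top_iff']
      intro x
      have h2 : (x : G) ∈ L.map N.subtype := by rw [h1]; exact x.2
      obtain ⟨y, hy, e⟩ := h2
      have : y = x := Subtype.ext e
      rwa [← this])
  exact fun a ha b hb => Subtype.ext_iff.1 (hc ⟨a, ha⟩ ⟨b, hb⟩)

namespace EP

variable {H : Subgroup G} (h : EP H)

include h

/-! ### Abelian normal subgroups of `H` -/

section ab

variable [Finite G] {X : Subgroup G} (hX : X ≤ H) (hXn : ∀ g ∈ H, ∀ k ∈ X, g * k * g⁻¹ ∈ X) (hne : X ≠ ⊥)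
  (hab : ∀ a ∈ X, ∀ b ∈ X, a * b = b * a)

include hX hXn hne hab

/-- **(F5)** an abelian normal subgroup is semiregular outside -/
theorem ab_inf {x : G} (hx : x ∉ H) : X ⊓ cj x H = ⊥ := h.comm_inf hX hXn hX hXn hne hab hx

theorem ab_card {x : G} (hx : x ∉ H) : Nat.card X * Nat.card (H ⊓ cj x H : Subgroup G) = Nat.card H :=
  h.card_of_inf hX hXn hne hx (h.ab_inf hX hXn hne hab hx)

omit [Finite G] hX hXn hne hab in
theorem exists_notMem : ∃ x, x ∉ H := by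
  by_contra hcon
  push Not at hcon
  exact h.max.1 ((Subgroup.eq_top_iff' H).2 hcon)

/-- a nontrivial `H`-normal subgroup inside is everything -/
theorem ab_min {Y : Subgroup G} (hYX : Y ≤ X) (hYn : ∀ g ∈ H, ∀ k ∈ Y, g * k * g⁻¹ ∈ Y) (hYne : Y ≠ ⊥) : Y = X := by
  obtain ⟨x, hx⟩ := h.exists_notMem
  have h1 := h.ab_card hX hXn hne hab hx
  have h2 := h.ab_card (hYX.trans hX) hYn hYne (fun a ha b hb => hab a (hYX ha) b (hYX hb)) hx
  have h3 := Nat.eq_of_mul_eq_mul_right Nat.card_pos (h1.trans h2.symm)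
  exact Subgroup.eq_of_le_of_card_ge hYX h3.le

theorem ab_elem : ∃ r : ℕ, r.Prime ∧ ∀ a ∈ X, a ^ r = 1 := by
  apply elem_of_irr hXn _ hne hab
  intro L hL hLn
  by_cases h1 : L = ⊥
  · exact Or.inl h1
  · exact Or.inr (h.ab_min hX hXn hne hab hL hLn h1)

/-- `C_H(X) = X` -/
theorem ab_cent {c : G} (hc : c ∈ H) (hcX : ∀ a ∈ X, c * a = a * c) : c ∈ X := by
  obtain ⟨x, hx⟩ := h.exists_notMem
  let Y : Subgroup G :=
    { carrier := {c | c ∈ H ∧ ∀ a ∈ X, c * a = a * c}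
      one_mem' := ⟨one_mem _, fun a _ => by rw [one_mul, mul_one]⟩
      mul_mem' := by
        rintro c d ⟨h1, h2⟩ ⟨h3, h4⟩
        exact ⟨mul_mem h1 h3, fun a ha => by rw [mul_assoc, h4 a ha, ← mul_assoc, h2 a ha, mul_assoc]⟩
      inv_mem' := by
        rintro c ⟨h1, h2⟩
        exact ⟨inv_mem h1, fun a ha => by
          rw [inv_mul_eq_iff_eq_mul, ← mul_assoc, h2 a ha, mul_assoc, mul_inv_cancel, mul_one]⟩ }
  have hXY : X ≤ Y := fun a ha => ⟨hX ha, fun b hb => hab a ha b hb⟩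
  have hYH : Y ≤ H := fun c hc => hc.1
  have hYn : ∀ g ∈ H, ∀ k ∈ Y, g * k * g⁻¹ ∈ Y := by
    rintro g hg k ⟨h1, h2⟩
    refine ⟨H.mul_mem (H.mul_mem hg h1) (H.inv_mem hg), fun a ha => ?_⟩
    have h3 := h2 _ (hXn g⁻¹ (inv_mem hg) a ha)
    rw [inv_inv] at h3
    calc g * k * g⁻¹ * a = g * (k * (g⁻¹ * a * g)) * g⁻¹ := by group
      _ = g * (g⁻¹ * a * g * k) * g⁻¹ := by rw [h3]
      _ = a * (g * k * g⁻¹) := by group
  have hYne : Y ≠ ⊥ := fun e => hne (le_bot_iff.1 (e ▸ hXY))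
  have h1 := h.card_comm hX hXn hne hYH hYn hYne (fun a ha b hb => (hb.2 a ha).symm) h.max.1
  have h2 : X = Y := Subgroup.eq_of_le_of_card_ge hXY h1.ge
  rw [h2]
  exact ⟨hc, hcX⟩

/-- `|G : H| = 1` modulo `|X|` -/
theorem ab_index : H.index ≡ 1 [MOD Nat.card X] := by
  classical
  have hst : ∀ x : G, stabilizer G (x : G ⧸ H) = cj x H := by
    intro x
    have h1 : (x : G ⧸ H) = x • ((1 : G) : G ⧸ H) := by
      rw [MulAction.Quotient.smul_coe, smul_eq_mul, mul_one]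
    rw [h1, stab_smul, MulAction.stabilizer_quotient]
  have hfree : ∀ (x : G), x ∉ H → ∀ k : X, k • (x : G ⧸ H) = x → k = 1 := by
    intro x hx k hk
    have h1 : (k : G) ∈ X ⊓ cj x H := by
      refine ⟨k.2, ?_⟩
      rw [← hst]
      exact hk
    rw [h.ab_inf hX hXn hne hab hx, mem_bot] at h1
    exact Subtype.ext h1
  -- the set of the other points
  let Z : SubMulAction X (G ⧸ H) :=
    { carrier := {p | p ≠ ((1 : G) : G ⧸ H)}
      smul_mem' := by
        intro k p hp e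
        apply hp
        have h1 : k⁻¹ • (k • p) = k⁻¹ • ((1 : G) : G ⧸ H) := by rw [e]
        rw [inv_smul_smul] at h1
        rw [h1]
        have h2 : ((k⁻¹ : X) : G) ∈ stabilizer G ((1 : G) : G ⧸ H) := by
          rw [MulAction.stabilizer_quotient]
          exact hX (k⁻¹).2
        exact h2 }
  have hZfree : ∀ (k : X) (z : Z), k • z = z → k = 1 := by
    rintro k ⟨p, hp⟩ e
    induction p using QuotientGroup.induction_on with
    | H x =>
      apply hfree x _ k (Subtype.ext_iff.1 e)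
      intro hx
      apply hp
      rw [eq_comm, QuotientGroup.eq, inv_one, one_mul]
      exact hx
  have h1 : Nat.card X ∣ Nat.card Z := by
    have e1 : Nat.card Z = Nat.card (Quotient (orbitRel X Z)) * Nat.card X := by
      rw [← Nat.card_prod]
      apply Nat.card_congr
      refine (selfEquivSigmaOrbits X Z).trans ?_
      refine (Equiv.sigmaCongrRight fun ω => ?_).trans (Equiv.sigmaEquivProd _ _)
      refine (orbitEquivQuotientStabilizer X ω.out).trans ?_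
      have hb : stabilizer X ω.out = ⊥ := by
        rw [Subgroup.eq_bot_iff_forall]
        intro k hk
        exact hZfree k _ hk
      rw [hb]
      exact QuotientGroup.quotientBot.toEquiv
    rw [e1]
    exact dvd_mul_left _ _
  have h2 : H.index = Nat.card Z + 1 := by
    have e1 : H.index = Nat.card (G ⧸ H) := rfl
    rw [e1]
    have e2 : Nat.card Z = Nat.card {p : G ⧸ H // p ≠ ((1 : G) : G ⧸ H)} := rfl
    rw [e2]
    have := Fintype.ofFinite (G ⧸ H)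
    rw [Nat.card_eq_fintype_card, Nat.card_eq_fintype_card, Fintype.card_subtype_compl, Fintype.card_subtype_eq]
    have : 0 < Fintype.card (G ⧸ H) := Fintype.card_pos_iff.2 ⟨((1 : G) : G ⧸ H)⟩
    omega
  rw [h2]
  have h3 : Nat.card Z ≡ 0 [MOD Nat.card X] := (Nat.modEq_zero_iff_dvd).2 h1
  exact h3.add_right 1

end ab

/-- a nilpotent normal subgroup of `H` is abelian -/
theorem nilp_ab [Finite G] {X : Subgroup G} (hX : X ≤ H) (hXn : ∀ g ∈ H, ∀ k ∈ X, g * k * g⁻¹ ∈ X)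
    (hnil : Group.IsNilpotent X) : ∀ a ∈ X, ∀ b ∈ X, a * b = b * a := by
  by_cases hne : X = ⊥
  · intro a ha b hb
    rw [hne, mem_bot] at ha hb
    rw [ha, hb]
  let Y : Subgroup G := (center X).map X.subtype
  have hYX : Y ≤ X := by
    rintro _ ⟨y, _, rfl⟩
    exact y.2
  have hYc : ∀ a ∈ X, ∀ b ∈ Y, a * b = b * a := by
    rintro a ha _ ⟨b, hb, rfl⟩
    exact Subtype.ext_iff.1 (mem_center_iff.1 hb ⟨a, ha⟩)
  have hYc' : ∀ b ∈ X, (∀ a ∈ X, a * b = b * a) → b ∈ Y := by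
    intro b hb hc
    exact ⟨⟨b, hb⟩, mem_center_iff.2 fun a => Subtype.ext (hc a a.2), rfl⟩
  have hYn : ∀ g ∈ H, ∀ k ∈ Y, g * k * g⁻¹ ∈ Y := by
    intro g hg k hk
    apply hYc' _ (hXn g hg k (hYX hk))
    intro a ha
    have h3 := hYc _ (hXn g⁻¹ (inv_mem hg) a ha) k hk
    rw [inv_inv] at h3
    calc a * (g * k * g⁻¹) = g * (g⁻¹ * a * g * k) * g⁻¹ := by group
      _ = g * (k * (g⁻¹ * a * g)) * g⁻¹ := by rw [h3]
      _ = g * k * g⁻¹ * a := by group
  have hYne : Y ≠ ⊥ := by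
    intro e
    rw [Subgroup.map_eq_bot_iff_of_injective _ X.subtype_injective] at e
    have hnt : Nontrivial X := (Subgroup.nontrivial_iff_ne_bot X).2 hne
    exact Group.IsNilpotent.center_ne_bot (G := X) e
  have h1 := h.card_comm hX hXn hne (hYX.trans hX) hYn hYne hYc h.max.1
  have h2 : Y = X := Subgroup.eq_of_le_of_card_ge hYX h1.le
  intro a ha b hb
  rw [← h2] at hb
  exact hYc a ha b hb

section T

variable {T : Subgroup G} [hTn : T.Normal]

/-- `C_H(A) = 1` -/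
theorem cent_A [Finite G] {x : G} (hx : x ∉ H) (hM : H ⊓ cj x H ⊓ T ≠ ⊥) {c : G} (hc : c ∈ H)
    (hcA : ∀ a ∈ H ⊓ T, c * a = a * c) : c = 1 := by
  let Y : Subgroup G :=
    { carrier := {c | c ∈ H ∧ ∀ a ∈ H ⊓ T, c * a = a * c}
      one_mem' := ⟨one_mem _, fun a _ => by rw [one_mul, mul_one]⟩
      mul_mem' := by
        rintro c d ⟨h1, h2⟩ ⟨h3, h4⟩
        exact ⟨mul_mem h1 h3, fun a ha => by rw [mul_assoc, h4 a ha, ← mul_assoc, h2 a ha, mul_assoc]⟩
      inv_mem' := by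
        rintro c ⟨h1, h2⟩
        exact ⟨inv_mem h1, fun a ha => by
          rw [inv_mul_eq_iff_eq_mul, ← mul_assoc, h2 a ha, mul_assoc, mul_inv_cancel, mul_one]⟩ }
  have hAn : ∀ g ∈ H, ∀ k ∈ H ⊓ T, g * k * g⁻¹ ∈ H ⊓ T := fun g hg k hk =>
    ⟨H.mul_mem (H.mul_mem hg (mem_inf.1 hk).1) (H.inv_mem hg), hTn.conj_mem k (mem_inf.1 hk).2 g⟩
  have hYH : Y ≤ H := fun c hc => hc.1
  have hYn : ∀ g ∈ H, ∀ k ∈ Y, g * k * g⁻¹ ∈ Y := by
    rintro g hg k ⟨h1, h2⟩
    refine ⟨H.mul_mem (H.mul_mem hg h1) (H.inv_mem hg), fun a ha => ?_⟩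
    have h3 := h2 _ (hAn g⁻¹ (inv_mem hg) a ha)
    rw [inv_inv] at h3
    calc g * k * g⁻¹ * a = g * (k * (g⁻¹ * a * g)) * g⁻¹ := by group
      _ = g * (g⁻¹ * a * g * k) * g⁻¹ := by rw [h3]
      _ = a * (g * k * g⁻¹) := by group
  by_contra hne
  have hYne : Y ≠ ⊥ := by
    intro e
    have h1 : c ∈ Y := ⟨hc, hcA⟩
    rw [e, mem_bot] at h1
    exact hne h1
  have h1 := h.comm_inf (X := H ⊓ T) inf_le_left hAn hYH hYn hYne (fun a ha b hb => (hb.2 a ha).symm) hx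
  apply hM
  rw [eq_bot_iff, ← h1]
  exact le_inf (le_inf (inf_le_left.trans inf_le_left) inf_le_right) (inf_le_left.trans inf_le_right)

/-- an abelian nontrivial normal subgroup of `H` is in `T` -/
theorem ab_le_T [Finite G] {x : G} (hx : x ∉ H) (hM : H ⊓ cj x H ⊓ T ≠ ⊥) {X : Subgroup G} (hX : X ≤ H)
    (hXn : ∀ g ∈ H, ∀ k ∈ X, g * k * g⁻¹ ∈ X) (hne : X ≠ ⊥) (hab : ∀ a ∈ X, ∀ b ∈ X, a * b = b * a) : X ≤ T := by
  by_cases h1 : X ⊓ T = ⊥
  · exfalso
    apply hne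
    rw [Subgroup.eq_bot_iff_forall]
    intro c hc
    apply h.cent_A hx hM (hX hc)
    intro a ha
    have h2 : c * a * c⁻¹ * a⁻¹ ∈ X ⊓ T := by
      refine ⟨?_, T.mul_mem (hTn.conj_mem a (mem_inf.1 ha).2 c) (T.inv_mem (mem_inf.1 ha).2)⟩
      have e : c * a * c⁻¹ * a⁻¹ = c * (a * c⁻¹ * a⁻¹) := by group
      rw [e]
      exact X.mul_mem hc (hXn a (mem_inf.1 ha).1 _ (X.inv_mem hc))
    rw [h1, mem_bot, mul_inv_eq_one, mul_inv_eq_iff_eq_mul] at h2
    exact h2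
  · have h2 := h.ab_min hX hXn hne hab (Y := X ⊓ T) inf_le_left (by
      intro g hg k hk
      exact ⟨hXn g hg k (mem_inf.1 hk).1, hTn.conj_mem k (mem_inf.1 hk).2 g⟩) h1
    rw [← h2]
    exact inf_le_right

/-- **(F3)** for characteristic subgroups of `M0` -/
theorem norm_char [Finite G] {x : G} (hx : x ∉ H) (K : Subgroup (H ⊓ cj x H ⊓ T : Subgroup G)) [hK : K.Characteristic]
    (hne : K ≠ ⊥) {g : G} (hg : g ∈ H) (hgK : ∀ k ∈ K.map (Subgroup.subtype _), g * k * g⁻¹ ∈ K.map (Subgroup.subtype _)) :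
    g ∈ cj x H := by
  refine h.norm hx (X := K.map (Subgroup.subtype _)) ?_ ?_ ?_ hg hgK
  · rintro _ ⟨y, _, rfl⟩
    exact (mem_inf.1 y.2).1
  · intro m hm
    have hle : H ⊓ cj x H ≤ Subgroup.normalizer ((H ⊓ cj x H ⊓ T : Subgroup G) : Set G) := by
      intro m hm
      rw [Subgroup.mem_normalizer_iff]
      intro n
      constructor
      · intro hn
        exact ⟨(H ⊓ cj x H).mul_mem ((H ⊓ cj x H).mul_mem hm (mem_inf.1 hn).1) ((H ⊓ cj x H).inv_mem hm),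
          hTn.conj_mem n (mem_inf.1 hn).2 m⟩
      · intro hn
        have h1 : m⁻¹ * (m * n * m⁻¹) * m⁻¹⁻¹ ∈ H ⊓ cj x H ⊓ T :=
          ⟨(H ⊓ cj x H).mul_mem ((H ⊓ cj x H).mul_mem ((H ⊓ cj x H).inv_mem hm) (mem_inf.1 hn).1)
            ((H ⊓ cj x H).inv_mem ((H ⊓ cj x H).inv_mem hm)), hTn.conj_mem _ (mem_inf.1 hn).2 m⁻¹⟩
        have e : m⁻¹ * (m * n * m⁻¹) * m⁻¹⁻¹ = n := by group
        rwa [e] at h1
    let σ := (H ⊓ cj x H ⊓ T : Subgroup G).normalizerMonoidHom ⟨m, hle hm⟩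
    have hσ : K.map σ.toMonoidHom = K := Subgroup.characteristic_iff_map_eq.1 hK σ
    rintro _ ⟨k, hk, rfl⟩
    have h1 : σ k ∈ K := by
      rw [← hσ]
      exact ⟨k, hk, rfl⟩
    exact ⟨σ k, h1, rfl⟩
  · intro e
    rw [Subgroup.map_eq_bot_iff_of_injective _ (Subgroup.subtype_injective _)] at e
    exact hne e

omit h in
/-- normaliser growth -/
theorem _root_.Cfsg.Agent.H284.exists_norm_lt {r : ℕ} (hr : r.Prime) {R Q : Subgroup G} [Finite G] (hQ : IsPGroup r Q)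
    (hRQ : R ≤ Q) (hne : Q ≠ R) : ∃ y ∈ Q, y ∉ R ∧ ∀ k ∈ R, y * k * y⁻¹ ∈ R := by
  have := Fact.mk hr
  have h1 : R.subgroupOf Q < ⊤ := by
    rw [lt_top_iff_ne_top]
    intro e
    rw [Subgroup.subgroupOf_eq_top] at e
    exact hne (le_antisymm e hRQ)
  have hnil : Group.IsNilpotent Q := hQ.isNilpotent
  have h2 := Group.normalizerCondition_of_isNilpotent (G := Q) _ h1
  obtain ⟨y, hy, hyn⟩ := SetLike.exists_of_lt h2
  refine ⟨y, y.2, hyn, ?_⟩
  intro k hk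
  have h4 : (⟨k, hRQ hk⟩ : Q) ∈ R.subgroupOf Q := hk
  exact (Subgroup.mem_normalizer_iff.1 hy _).1 h4

/-- A nontrivial normal subgroup `R` of `M` containing all `r`-elements of `M0` is a Sylow subgroup of `A`. -/
theorem sylow_M0 [Finite G] {x : G} (hx : x ∉ H) {r : ℕ} (hr : r.Prime) {R : Subgroup G} (hR : R ≤ H ⊓ cj x H)
    (hRn : ∀ m ∈ H ⊓ cj x H, ∀ k ∈ R, m * k * m⁻¹ ∈ R) (hne : R ≠ ⊥)
    (hRs : ∀ y ∈ H ⊓ cj x H ⊓ T, (∃ k : ℕ, y ^ (r ^ k) = 1) → y ∈ R) {Q : Subgroup G} (hQ : Q ≤ H ⊓ T)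
    (hQp : IsPGroup r Q) (hRQ : R ≤ Q) : Q = R := by
  by_contra hcon
  obtain ⟨y, hyQ, hyR, hyn⟩ := exists_norm_lt hr hQp hRQ hcon
  apply hyR
  have h1 := h.norm hx hR hRn hne (hQ hyQ).1 hyn
  apply hRs y ⟨⟨(hQ hyQ).1, h1⟩, (hQ hyQ).2⟩
  obtain ⟨k, hk⟩ := hQp ⟨y, hyQ⟩
  exact ⟨k, Subtype.ext_iff.1 hk⟩

/-- **(F3c)** If `M0 = A ∩ A^x` is abelian, then `H` has a nontrivial abelian normal subgroup. -/
theorem abelian_M0 [Finite G] {x : G} (hx : x ∉ H) (hA : H ⊓ T ≠ ⊥)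
    (hab : ∀ a ∈ H ⊓ cj x H ⊓ T, ∀ b ∈ H ⊓ cj x H ⊓ T, a * b = b * a) (hM0 : H ⊓ cj x H ⊓ T ≠ ⊥) :
    ∃ K : Subgroup G, K ≤ H ⊓ T ∧ (∀ g ∈ H, ∀ k ∈ K, g * k * g⁻¹ ∈ K) ∧ K ≠ ⊥ ∧ ∀ a ∈ K, ∀ b ∈ K, a * b = b * a := by
  classical
  have hAn : ∀ g ∈ H, ∀ k ∈ H ⊓ T, g * k * g⁻¹ ∈ H ⊓ T := fun g hg k hk =>
    ⟨H.mul_mem (H.mul_mem hg (mem_inf.1 hk).1) (H.inv_mem hg), hTn.conj_mem k (mem_inf.1 hk).2 g⟩
  set M0 : Subgroup G := H ⊓ cj x H ⊓ T with hM0def
  have hM0A : M0 ≤ H ⊓ T := le_inf (inf_le_left.trans inf_le_left) inf_le_right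
  have hM0n : ∀ m ∈ H ⊓ cj x H, ∀ k ∈ M0, m * k * m⁻¹ ∈ M0 := fun m hm k hk =>
    ⟨(H ⊓ cj x H).mul_mem ((H ⊓ cj x H).mul_mem hm (mem_inf.1 hk).1) ((H ⊓ cj x H).inv_mem hm),
      hTn.conj_mem k (mem_inf.1 hk).2 m⟩
  -- the normal complements
  have hcompl : ∀ r : ℕ, r.Prime → r ∣ Nat.card M0 → ∃ Kr : Subgroup (H ⊓ T : Subgroup G),
      (∀ a : (H ⊓ T : Subgroup G), a ∈ Kr ↔ ¬ r ∣ orderOf a) ∧
      ∀ a b : (H ⊓ T : Subgroup G), a * b * a⁻¹ * b⁻¹ ∈ Kr := by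
    intro r hr hrd
    have := Fact.mk hr
    let R : Subgroup G :=
      { carrier := {x | x ∈ M0 ∧ ∃ k : ℕ, x ^ (r ^ k) = 1}
        one_mem' := ⟨one_mem _, 0, one_pow _⟩
        mul_mem' := by
          rintro x y ⟨hx, k, hx'⟩ ⟨hy, l, hy'⟩
          refine ⟨mul_mem hx hy, k + l, ?_⟩
          rw [(show Commute x y from hab x hx y hy).mul_pow, pow_add, pow_mul, hx', one_pow, one_mul,
            mul_comm (r ^ k), pow_mul, hy', one_pow]
        inv_mem' := by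
          rintro x ⟨hx, k, hx'⟩
          exact ⟨inv_mem hx, k, by rw [inv_pow, hx', inv_one]⟩ }
    have hRM0 : R ≤ M0 := fun x hx => hx.1
    have hRp : IsPGroup r R := by
      rintro ⟨y, hy, k, hk⟩
      exact ⟨k, Subtype.ext hk⟩
    have hRn : ∀ m ∈ H ⊓ cj x H, ∀ k ∈ R, m * k * m⁻¹ ∈ R := by
      rintro m hm k ⟨hk, l, hl⟩
      exact ⟨hM0n m hm k hk, l, by rw [conj_pow, hl, mul_one, mul_inv_cancel]⟩
    have hRne : R ≠ ⊥ := by
      intro e
      obtain ⟨d, hd⟩ := exists_prime_orderOf_dvd_card' r hrd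
      have h2 : (d : G) ∈ R := ⟨d.2, 1, by
        rw [pow_one]
        have := pow_orderOf_eq_one d
        rw [hd] at this
        exact Subtype.ext_iff.1 this⟩
      rw [e, mem_bot] at h2
      have h3 : d = 1 := Subtype.ext h2
      rw [h3, orderOf_one] at hd
      exact hr.one_lt.ne hd
    have hRA : IsPGroup r (R.subgroupOf (H ⊓ T)) :=
      hRp.of_equiv (Subgroup.subgroupOfEquivOfLe (hRM0.trans hM0A)).symm
    obtain ⟨P, hP⟩ := hRA.exists_le_sylow
    have hPR : (P : Subgroup (H ⊓ T : Subgroup G)).map (Subgroup.subtype _) = R := by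
      apply h.sylow_M0 hx hr (hRM0.trans inf_le_left) hRn hRne (fun y hy hy' => ⟨hy, hy'⟩)
      · rintro _ ⟨y, _, rfl⟩
        exact y.2
      · exact P.isPGroup'.map _
      · intro y hy
        exact ⟨⟨y, hM0A (hRM0 hy)⟩, hP hy, rfl⟩
    have hPmem : ∀ y : (H ⊓ T : Subgroup G), y ∈ (P : Subgroup (H ⊓ T : Subgroup G)) ↔ (y : G) ∈ R := by
      intro y
      rw [← hPR]
      constructor
      · intro hy
        exact ⟨y, hy, rfl⟩
      · rintro ⟨z, hz, e⟩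
        have : z = y := Subtype.ext e
        rwa [← this]
    have hPnc : ∀ y : (H ⊓ T : Subgroup G), y ∈ Subgroup.normalizer ((P : Subgroup (H ⊓ T : Subgroup G)) : Set _) →
        (y : G) ∈ M0 := by
      intro y hy
      rw [Subgroup.mem_normalizer_iff] at hy
      refine ⟨⟨(mem_inf.1 y.2).1, ?_⟩, (mem_inf.1 y.2).2⟩
      apply h.norm hx (hRM0.trans inf_le_left) hRn hRne (mem_inf.1 y.2).1
      intro k hk
      have h4 := (hy ⟨k, hM0A (hRM0 hk)⟩).1 ((hPmem _).2 hk)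
      exact (hPmem _).1 h4
    have hPc : Subgroup.normalizer ((P : Subgroup (H ⊓ T : Subgroup G)) : Set (H ⊓ T : Subgroup G)) ≤
        Subgroup.centralizer ((P : Subgroup (H ⊓ T : Subgroup G)) : Set (H ⊓ T : Subgroup G)) := by
      intro y hy
      rw [Subgroup.mem_centralizer_iff]
      intro z hz
      apply Subtype.ext
      exact hab _ (hRM0 ((hPmem z).1 hz)) _ (hPnc y hy)
    refine ⟨(MonoidHom.transferSylow P hPc).ker, ?_, ?_⟩
    · intro a
      have hnd := MonoidHom.not_dvd_card_ker_transferSylow P hPc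
      constructor
      · intro ha hra
        apply hnd
        refine hra.trans ?_
        have h5 : orderOf a = orderOf (⟨a, ha⟩ : (MonoidHom.transferSylow P hPc).ker) :=
          Subgroup.orderOf_coe (⟨a, ha⟩ : (MonoidHom.transferSylow P hPc).ker)
        rw [h5]
        exact orderOf_dvd_natCard _
      · intro hra
        rw [MonoidHom.mem_ker]
        obtain ⟨k, hk⟩ := P.isPGroup' (MonoidHom.transferSylow P hPc a)
        have h5 : orderOf (MonoidHom.transferSylow P hPc a) ∣ r ^ k := orderOf_dvd_of_pow_eq_one hk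
        have h6 : orderOf (MonoidHom.transferSylow P hPc a) ∣ orderOf a := orderOf_map_dvd _ _
        have h7 : Nat.Coprime (orderOf a) (r ^ k) := by
          apply Nat.Coprime.pow_right
          rw [Nat.coprime_comm]
          exact (Nat.Prime.coprime_iff_not_dvd hr).2 hra
        have h8 : orderOf (MonoidHom.transferSylow P hPc a) ∣ 1 := by
          rw [← h7]
          exact Nat.dvd_gcd h6 h5
        exact orderOf_eq_one_iff.1 (Nat.dvd_one.1 h8)
    · intro a b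
      rw [MonoidHom.mem_ker, map_mul, map_mul, map_mul, map_inv, map_inv]
      have hPab : ∀ u v : P, u * v = v * u := by
        intro u v
        apply Subtype.ext
        apply Subtype.ext
        exact hab _ (hRM0 ((hPmem u).1 u.2)) _ (hRM0 ((hPmem v).1 v.2))
      rw [mul_inv_eq_one, mul_inv_eq_iff_eq_mul]
      exact hPab _ _
  let K : Subgroup G :=
    { carrier := {a | a ∈ H ⊓ T ∧ ∀ r : ℕ, r.Prime → r ∣ Nat.card M0 → ¬ r ∣ orderOf a}
      one_mem' := ⟨one_mem _, fun r hr _ h1 => by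
        rw [orderOf_one] at h1
        exact hr.one_lt.ne' (Nat.dvd_one.1 h1)⟩
      mul_mem' := by
        rintro a b ⟨ha, ha'⟩ ⟨hb, hb'⟩
        refine ⟨mul_mem ha hb, fun r hr hrd => ?_⟩
        obtain ⟨Kr, hKr, -⟩ := hcompl r hr hrd
        have h1 := (hKr ⟨a, ha⟩).2 (by rw [← Subgroup.orderOf_coe]; exact ha' r hr hrd)
        have h2 := (hKr ⟨b, hb⟩).2 (by rw [← Subgroup.orderOf_coe]; exact hb' r hr hrd)
        have h3 := (hKr _).1 (mul_mem h1 h2)
        rw [← Subgroup.orderOf_coe] at h3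
        exact h3
      inv_mem' := by
        rintro a ⟨ha, ha'⟩
        exact ⟨inv_mem ha, fun r hr hrd => by rw [orderOf_inv]; exact ha' r hr hrd⟩ }
  have hKA : K ≤ H ⊓ T := fun a ha => ha.1
  have hKn : ∀ g ∈ H, ∀ k ∈ K, g * k * g⁻¹ ∈ K := by
    rintro g hg k ⟨hk, hk'⟩
    refine ⟨hAn g hg k hk, fun r hr hrd => ?_⟩
    have e : orderOf (g * k * g⁻¹) = orderOf k := by
      have := orderOf_injective (MulAut.conj g).toMonoidHom (MulAut.conj g).injective k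
      exact this
    rw [e]
    exact hk' r hr hrd
  have hKM0 : ∀ a ∈ K, a ∈ M0 → a = 1 := by
    rintro a ⟨_, ha'⟩ haM
    by_contra hne
    have h1 : orderOf a ≠ 1 := fun e => hne (orderOf_eq_one_iff.1 e)
    obtain ⟨r, hr, hrd⟩ := Nat.exists_prime_and_dvd h1
    apply ha' r hr _ hrd
    apply hrd.trans
    have h5 : orderOf a = orderOf (⟨a, haM⟩ : M0) := Subgroup.orderOf_coe (⟨a, haM⟩ : M0)
    rw [h5]
    exact orderOf_dvd_natCard _
  by_cases hK : K = ⊥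
  · -- `A` is abelian
    refine ⟨H ⊓ T, le_rfl, hAn, hA, ?_⟩
    intro a ha b hb
    have h1 : a * b * a⁻¹ * b⁻¹ ∈ K := by
      refine ⟨?_, fun r hr hrd => ?_⟩
      · exact mul_mem (mul_mem (mul_mem ha hb) (inv_mem ha)) (inv_mem hb)
      · obtain ⟨Kr, hKr, hKc⟩ := hcompl r hr hrd
        have h2 := (hKr _).1 (hKc ⟨a, ha⟩ ⟨b, hb⟩)
        rw [← Subgroup.orderOf_coe] at h2
        exact h2
    rw [hK, mem_bot, mul_inv_eq_one, mul_inv_eq_iff_eq_mul] at h1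
    exact h1
  · refine ⟨K, hKA, hKn, hK, ?_⟩
    have hcard : Nat.card M0 ≠ 1 := fun e => hM0 (Subgroup.card_eq_one.1 e)
    obtain ⟨r, hr, hrd⟩ := Nat.exists_prime_and_dvd hcard
    have := Fact.mk hr
    let R : Subgroup G :=
      { carrier := {x | x ∈ M0 ∧ x ^ r = 1}
        one_mem' := ⟨one_mem _, one_pow _⟩
        mul_mem' := by
          rintro x y ⟨hx, hx'⟩ ⟨hy, hy'⟩
          refine ⟨mul_mem hx hy, ?_⟩
          rw [(show Commute x y from hab x hx y hy).mul_pow, hx', hy', one_mul]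
        inv_mem' := by
          rintro x ⟨hx, hx'⟩
          exact ⟨inv_mem hx, by rw [inv_pow, hx', inv_one]⟩ }
    have hRM0 : R ≤ M0 := fun x hx => hx.1
    have hRp : IsPGroup r R := by
      rintro ⟨y, hy, hy'⟩
      exact ⟨1, Subtype.ext (by rw [pow_one]; exact hy')⟩
    have hRn : ∀ m ∈ H ⊓ cj x H, ∀ k ∈ R, m * k * m⁻¹ ∈ R := by
      rintro m hm k ⟨hk, hl⟩
      exact ⟨hM0n m hm k hk, by rw [conj_pow, hl, mul_one, mul_inv_cancel]⟩
    have hRne : R ≠ ⊥ := by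
      intro e
      obtain ⟨d, hd⟩ := exists_prime_orderOf_dvd_card' r hrd
      have h2 : (d : G) ∈ R := ⟨d.2, by
        have := pow_orderOf_eq_one d
        rw [hd] at this
        exact Subtype.ext_iff.1 this⟩
      rw [e, mem_bot] at h2
      have h3 : d = 1 := Subtype.ext h2
      rw [h3, orderOf_one] at hd
      exact hr.one_lt.ne hd
    refine reg_core_sub (M := H ⊓ cj x H) (N := K) (R := R) (fun m hm => hKn m (mem_inf.1 hm).1)
      (hRM0.trans inf_le_left) hRn hr hRp ?_ ?_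
    · intro n hn hc
      apply hKM0 n hn
      refine ⟨⟨(mem_inf.1 (hKA hn)).1, ?_⟩, (mem_inf.1 (hKA hn)).2⟩
      apply h.norm hx (hRM0.trans inf_le_left) hRn hRne (mem_inf.1 (hKA hn)).1
      intro k hk
      rw [← hc k hk, mul_inv_cancel_right]
      exact hk
    · intro L hL hLn
      rcases h.two x hx ((H ⊓ cj x H) ⊔ L) le_sup_left
        (sup_le inf_le_left (hL.trans (hKA.trans inf_le_left))) with h3 | h3
      · left
        rw [Subgroup.eq_bot_iff_forall]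
        intro l hl
        apply hKM0 l (hL hl)
        exact ⟨h3.le ((le_sup_right : L ≤ _) hl), (mem_inf.1 (hKA (hL hl))).2⟩
      · right
        apply le_antisymm hL
        intro a ha
        obtain ⟨l, hl, m, hm, e⟩ := mem_sup_norm hLn (x := a) (by rw [h3]; exact (mem_inf.1 (hKA ha)).1)
        have h4 : m ∈ K := by
          have h5 : m = l⁻¹ * a := by rw [e, inv_mul_cancel_left]
          rw [h5]
          exact mul_mem (inv_mem (hL hl)) ha
        have h6 : m = 1 := hKM0 m h4 ⟨hm, (mem_inf.1 (hKA h4)).2⟩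
        rw [e, h6, mul_one]
        exact hl

end T

end EP


/-! ### (LS) the linear space of the lines `fix(G_ab)` -/

namespace EPA

variable (h : EPA G Ω)

include h

theorem stab_eq [FaithfulSMul G Ω] {a b c : Ω} (hab : b ≠ a) (hca : c ≠ a)
    (hc : stabilizer G a ⊓ stabilizer G b ≤ stabilizer G c) :
    stabilizer G a ⊓ stabilizer G c = stabilizer G a ⊓ stabilizer G b := by
  rcases h.two a b hab (stabilizer G a ⊓ stabilizer G c) (le_inf inf_le_left hc) inf_le_left with h1 | h1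
  · exact h1
  · exfalso
    exact h.not_le hca.symm (inf_eq_left.1 h1)

/-- two points of the line `fix(G_ab)` determine the line -/
theorem line_eq [FaithfulSMul G Ω] {a b c d : Ω} (hab : b ≠ a) (hcd : c ≠ d)
    (hc : stabilizer G a ⊓ stabilizer G b ≤ stabilizer G c) (hd : stabilizer G a ⊓ stabilizer G b ≤ stabilizer G d) :
    stabilizer G c ⊓ stabilizer G d = stabilizer G a ⊓ stabilizer G b := by
  by_cases hca : c = a
  · subst hca
    exact h.stab_eq hab hcd.symm hd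
  · have h1 := h.stab_eq hab hca hc
    have h2 := h.stab_eq (a := c) (b := a) (c := d) (Ne.symm hca) hcd.symm (by
      rw [inf_comm, h1]; exact hd)
    rw [h2, inf_comm, h1]

/-- the lines through `a` -/
def lines (G : Type*) [Group G] {Ω : Type*} [MulAction G Ω] (a : Ω) : Set (Subgroup G) :=
  {M | ∃ b, b ≠ a ∧ M = stabilizer G a ⊓ stabilizer G b}

theorem ncard_lines [Finite G] (a b : Ω) : (lines G a).ncard = (lines G b).ncard := by
  obtain ⟨g, rfl⟩ := h.exists_smul a b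
  refine Set.ncard_congr (fun M _ => cj g M) ?_ ?_ ?_
  · rintro _ ⟨c, hc, rfl⟩
    refine ⟨g • c, fun e => hc (smul_left_cancel g e), ?_⟩
    rw [cj_inf, stab_smul, stab_smul]
  · intro M N _ _ e
    have : cj g⁻¹ (cj g M) = cj g⁻¹ (cj g N) := congrArg _ e
    rwa [cj_inv_cj, cj_inv_cj] at this
  · rintro _ ⟨c, hc, rfl⟩
    refine ⟨stabilizer G a ⊓ stabilizer G (g⁻¹ • c), ⟨g⁻¹ • c, fun e => hc ?_, rfl⟩, ?_⟩
    · rw [← e, smul_inv_smul]
    · rw [cj_inf, ← stab_smul, ← stab_smul, smul_inv_smul]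

/-- A proper subspace has at most `r` points. -/
theorem ncard_subspace [Finite G] [Finite Ω] [FaithfulSMul G Ω] (a : Ω) {S : Set Ω}
    (hS : ∀ c ∈ S, ∀ d ∈ S, c ≠ d → ∀ e, stabilizer G c ⊓ stabilizer G d ≤ stabilizer G e → e ∈ S) {p : Ω}
    (hp : p ∉ S) : S.ncard ≤ (lines G a).ncard := by
  rw [h.ncard_lines a p]
  refine Set.ncard_le_ncard_of_injOn (fun c => stabilizer G p ⊓ stabilizer G c) ?_ ?_ (Set.toFinite _)
  · intro c hc
    exact ⟨c, fun e => hp (e ▸ hc), rfl⟩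
  · intro c hc d hd e
    by_contra hcd
    apply hp
    apply hS c hc d hd hcd p
    have h1 := h.line_eq (a := p) (b := c) (fun e => hp (e ▸ hc)) hcd inf_le_right
      (by
        have e' : stabilizer G p ⊓ stabilizer G c = stabilizer G p ⊓ stabilizer G d := e
        rw [e']; exact inf_le_right)
    rw [h1]
    exact inf_le_left

/-- the fixed points of a subset -/
theorem ncard_fix [Finite G] [Finite Ω] [FaithfulSMul G Ω] (a : Ω) {M : Set G} (hM : ∃ m ∈ M, m ≠ 1) :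
    {c : Ω | ∀ m ∈ M, m • c = c}.ncard ≤ (lines G a).ncard := by
  obtain ⟨m, hm, hm1⟩ := hM
  obtain ⟨p, hp⟩ : ∃ p : Ω, m • p ≠ p := by
    by_contra hcon
    push Not at hcon
    apply hm1
    apply FaithfulSMul.eq_of_smul_eq_smul (α := Ω)
    intro c
    rw [one_smul]
    exact hcon c
  refine h.ncard_subspace a (p := p) ?_ (fun hp' => hp (hp' m hm))
  intro c hc d hd _ e he m' hm'
  exact he (⟨hc m' hm', hd m' hm'⟩ : m' ∈ stabilizer G c ⊓ stabilizer G d)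

/-- `|Ω| ≤ r ^ 2` -/
theorem card_le_sq [Finite G] [Finite Ω] [FaithfulSMul G Ω] (a : Ω)
    (hne : ∀ b, b ≠ a → stabilizer G a ⊓ stabilizer G b ≠ ⊥) : Nat.card Ω ≤ (lines G a).ncard ^ 2 := by
  classical
  have := Fintype.ofFinite Ω
  have hfin : (lines G a).Finite := Set.toFinite _
  set r := (lines G a).ncard with hr
  have h1 : (Finset.univ.erase a : Finset Ω).card ≤
      ∑ M ∈ hfin.toFinset, ((Finset.univ.filter fun c : Ω => ∀ m ∈ M, m • c = c).erase a).card := by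
    refine le_trans (Finset.card_le_card ?_) Finset.card_biUnion_le
    intro b hb
    rw [Finset.mem_erase] at hb
    rw [Finset.mem_biUnion]
    refine ⟨stabilizer G a ⊓ stabilizer G b, ?_, ?_⟩
    · rw [Set.Finite.mem_toFinset]
      exact ⟨b, hb.1, rfl⟩
    · rw [Finset.mem_erase, Finset.mem_filter]
      exact ⟨hb.1, Finset.mem_univ _, fun m hm => (mem_inf.1 hm).2⟩
  have h2 : ∀ M ∈ hfin.toFinset, ((Finset.univ.filter fun c : Ω => ∀ m ∈ M, m • c = c).erase a).card ≤ r - 1 := by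
    intro M hM
    rw [Set.Finite.mem_toFinset] at hM
    obtain ⟨b, hb, rfl⟩ := hM
    rw [Finset.card_erase_of_mem]
    · apply Nat.sub_le_sub_right
      obtain ⟨m, hm⟩ := (Subgroup.ne_bot_iff_exists_ne_one).1 (hne b hb)
      have h3 := h.ncard_fix a (M := ((stabilizer G a ⊓ stabilizer G b : Subgroup G) : Set G))
        ⟨m, m.2, fun e => hm (Subtype.ext e)⟩
      rw [Set.ncard_eq_toFinset_card'] at h3
      refine le_trans (le_of_eq ?_) h3
      congr 1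
      ext c
      simp
    · rw [Finset.mem_filter]
      exact ⟨Finset.mem_univ _, fun m hm => (mem_inf.1 hm).1⟩
  have h4 := h1.trans (Finset.sum_le_card_nsmul _ _ _ h2)
  rw [Finset.card_erase_of_mem (Finset.mem_univ a), Finset.card_univ, smul_eq_mul,
    ← Set.ncard_eq_toFinset_card _ hfin, ← hr] at h4
  rw [Nat.card_eq_fintype_card]
  have h6 : r ≠ 0 := by
    intro e
    rw [hr, Set.ncard_eq_zero] at e
    apply (h.max a).1
    rw [Subgroup.eq_top_iff']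
    intro g
    by_contra hg
    have : stabilizer G a ⊓ stabilizer G (g • a) ∈ lines G a := ⟨g • a, fun e => hg e, rfl⟩
    rw [e] at this
    exact this
  obtain ⟨k, hk⟩ := Nat.exists_eq_succ_of_ne_zero h6
  have h7 : 0 < Fintype.card Ω := Fintype.card_pos_iff.2 ⟨a⟩
  rw [hk, Nat.succ_eq_add_one, Nat.add_sub_cancel] at h4
  rw [hk, Nat.succ_eq_add_one]
  have h8 : Fintype.card Ω ≤ (k + 1) * k + 1 := by omega
  nlinarith

end EPA


namespace EP

variable {H : Subgroup G} (h : EP H)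

/-! ### (RL) root elements -/

section RL

variable {T : Subgroup G} [hTn : T.Normal]

/-- **(RL)** for `z ∈ T`, `m ∈ H ∩ zHz⁻¹`: the element `(m z⁻¹ m⁻¹) z` is in `A = H ∩ T`. -/
theorem RL {z : G} (hzT : z ∈ T) {m : G} (hm : m ∈ H ⊓ cj z H) : m * z⁻¹ * m⁻¹ * z ∈ H ⊓ T := by
  refine ⟨?_, ?_⟩
  · have h1 : z⁻¹ * m * z ∈ H := mem_cj.1 (mem_inf.1 hm).2
    have e : m * z⁻¹ * m⁻¹ * z = m * (z⁻¹ * m * z)⁻¹ := by group
    rw [e]
    exact H.mul_mem (mem_inf.1 hm).1 (H.inv_mem h1)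
  · exact T.mul_mem (hTn.conj_mem _ (T.inv_mem hzT) m) hzT

/-- `z` is free for `H`: no nontrivial element `(m z⁻¹ m⁻¹) z`, `m ∈ H`, is in `H`. -/
def RLFree (H : Subgroup G) (z : G) : Prop := z ∉ H ∧ ∀ m ∈ H, m * z⁻¹ * m⁻¹ * z ∈ H → m * z⁻¹ * m⁻¹ * z = 1

omit [T.Normal] in
theorem RLFree.mem_iff {z : G} (hz : RLFree H z) {m : G} : m ∈ H ⊓ cj z H ↔ m ∈ H ∧ m * z = z * m := by
  constructor
  · intro hm
    refine ⟨(mem_inf.1 hm).1, ?_⟩
    have h1 : z⁻¹ * m * z ∈ H := mem_cj.1 (mem_inf.1 hm).2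
    have h2 : m * z⁻¹ * m⁻¹ * z ∈ H := by
      have e : m * z⁻¹ * m⁻¹ * z = m * (z⁻¹ * m * z)⁻¹ := by group
      rw [e]
      exact H.mul_mem (mem_inf.1 hm).1 (H.inv_mem h1)
    have h3 := hz.2 m (mem_inf.1 hm).1 h2
    have h4 : z = m * z * m⁻¹ := by
      have e : m * z * m⁻¹ = (m * z⁻¹ * m⁻¹)⁻¹ := by group
      rw [e, eq_comm, inv_eq_iff_mul_eq_one]
      exact h3
    rw [eq_mul_inv_iff_mul_eq] at h4
    exact h4.symm
  · rintro ⟨h1, h2⟩
    refine ⟨h1, mem_cj.2 ?_⟩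
    have e : z⁻¹ * m * z = m := by rw [mul_assoc, h2, inv_mul_cancel_left]
    rw [e]
    exact h1

/-- `z`, `z'` are joined: both centralisers in `H` are in a proper subgroup of `H`. -/
def RLEdge (H : Subgroup G) (z z' : G) : Prop :=
  ∃ S : Subgroup G, S ≤ H ∧ S ≠ H ∧ (∀ m ∈ H, m * z = z * m → m ∈ S) ∧ ∀ m ∈ H, m * z' = z' * m → m ∈ S

include h

omit [T.Normal] in
theorem RLFree.cent_eq {S : Subgroup G} {z : G} (hz : RLFree H z) (hSH : S ≤ H) (hS : S ≠ H)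
    (hzS : ∀ m ∈ H, m * z = z * m → m ∈ S) : S = H ⊓ cj z H := by
  rcases h.two z hz.1 S (fun m hm => hzS m (hz.mem_iff.1 hm).1 (hz.mem_iff.1 hm).2) hSH with h1 | h1
  · exact h1
  · exact absurd h1 hS

omit [T.Normal] in
theorem RLEdge.eq {z z' : G} (hz : RLFree H z) (hz' : RLFree H z') (he : RLEdge H z z') :
    H ⊓ cj z H = H ⊓ cj z' H := by
  obtain ⟨S, h1, h2, h3, h4⟩ := he
  rw [← RLFree.cent_eq h hz h1 h2 h3, ← RLFree.cent_eq h hz' h1 h2 h4]

omit [T.Normal] in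
/-- edge: every element of `H` which commutes with `z` commutes with `z'` -/
theorem RLEdge.of_comm [Finite G] {z z' : G} (hz' : RLFree H z') (hc : ∀ m ∈ H, m * z = z * m → m * z' = z' * m) :
    RLEdge H z z' := by
  refine ⟨H ⊓ cj z' H, inf_le_left, fun e => h.not_le_cj hz'.1 (inf_eq_left.1 e), ?_, ?_⟩
  · intro m hm hmz
    exact hz'.mem_iff.2 ⟨hm, hc m hm hmz⟩
  · intro m hm hmz
    exact hz'.mem_iff.2 ⟨hm, hmz⟩

/-- **(RL criterion)** a connected set `Z` of free elements of `T`: some `1 ≠ a ∈ A` centralises `Z`. -/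
theorem RL_criterion {Z : Set G} {z₀ : G} (hZ : ∀ z ∈ Z, RLFree H z)
    (hconn : ∀ z ∈ Z, Relation.ReflTransGen (fun a b => a ∈ Z ∧ b ∈ Z ∧ (RLEdge H a b ∨ RLEdge H b a)) z₀ z)
    (hM0 : H ⊓ cj z₀ H ⊓ T ≠ ⊥) : ∃ a ∈ H ⊓ T, a ≠ 1 ∧ ∀ z ∈ Z, a * z = z * a := by
  have h1 : ∀ z ∈ Z, H ⊓ cj z H = H ⊓ cj z₀ H := by
    intro z hz
    have h2 := hconn z hz
    induction h2 with
    | refl => rfl
    | tail _ h3 ih =>
      obtain ⟨h4, h5, h6⟩ := h3
      rw [← ih h4]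
      rcases h6 with h6 | h6
      · exact (RLEdge.eq h (hZ _ h4) (hZ _ h5) h6).symm
      · exact RLEdge.eq h (hZ _ h5) (hZ _ h4) h6
  obtain ⟨a, ha⟩ := Subgroup.ne_bot_iff_exists_ne_one.1 hM0
  refine ⟨a, ⟨(mem_inf.1 (mem_inf.1 a.2).1).1, (mem_inf.1 a.2).2⟩, fun e => ha (Subtype.ext e), ?_⟩
  intro z hz
  have h7 : (a : G) ∈ H ⊓ cj z H := by
    rw [h1 z hz]
    exact (mem_inf.1 a.2).1
  exact ((hZ z hz).mem_iff.1 h7).2

end RL

/-! ### (CL) closures -/

/-- **(CL)** if all `M ≥ Y` contain `N_A(Y)`, then `N_A(Y)` is normal in `N_G(Y)`; here for any set `C` in place of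
`N_A(Y)`. -/
theorem CL {Y : Subgroup G} {C : Set G} (hCH : ∀ c ∈ C, c ∈ H) (hYH : Y ≤ H)
    (hyp : ∀ x ∉ H, Y ≤ cj x H → ∀ c ∈ C, c ∈ cj x H) {t : G} (ht : ∀ y ∈ Y, t * y * t⁻¹ ∈ Y) {c : G} (hc : c ∈ C) :
    t * c * t⁻¹ ∈ H := by
  by_cases htH : t ∈ H
  · exact H.mul_mem (H.mul_mem htH (hCH c hc)) (H.inv_mem htH)
  · have h1 : t⁻¹ ∉ H := fun e => htH (by have := H.inv_mem e; rwa [inv_inv] at this)
    have h2 := hyp t⁻¹ h1 (by
      intro y hy
      rw [mem_cj, inv_inv]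
      exact hYH (ht y hy)) c hc
    rw [mem_cj, inv_inv] at h2
    exact h2

/-- the closure of `Y`: the intersection of all conjugates of `H` containing `Y` -/
def cl (H Y : Subgroup G) : Subgroup G := ⨅ x : {x : G // Y ≤ cj x H}, cj x.1 H

theorem mem_cl {Y : Subgroup G} {g : G} : g ∈ cl H Y ↔ ∀ x : G, Y ≤ cj x H → g ∈ cj x H := by
  rw [cl, mem_iInf]
  exact ⟨fun h x hx => h ⟨x, hx⟩, fun h x => h x.1 x.2⟩

theorem le_cl (H Y : Subgroup G) : Y ≤ cl H Y := fun _ hy => mem_cl.2 fun _ hx => hx hy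

theorem cl_le {Y : Subgroup G} (hY : Y ≤ H) : cl H Y ≤ H := by
  intro g hg
  have := mem_cl.1 hg 1 (by rw [cj_one]; exact hY)
  rwa [cj_one] at this

theorem cl_norm {Y : Subgroup G} {t : G} (ht : ∀ y ∈ Y, t * y * t⁻¹ ∈ Y) {g : G} (hg : g ∈ cl H Y) :
    t * g * t⁻¹ ∈ cl H Y := by
  rw [mem_cl] at hg ⊢
  intro x hx
  have h1 := hg (t⁻¹ * x) (by
    intro y hy
    have h2 := hx (ht y hy)
    rw [mem_cj] at h2 ⊢
    have e : (t⁻¹ * x)⁻¹ * y * (t⁻¹ * x) = x⁻¹ * (t * y * t⁻¹) * x := by group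
    rw [e]; exact h2)
  rw [mem_cj] at h1 ⊢
  have e : (t⁻¹ * x)⁻¹ * g * (t⁻¹ * x) = x⁻¹ * (t * g * t⁻¹) * x := by group
  rw [← e]; exact h1

/-! ### (LS) group form -/

/-- the set of the two point stabilisers `H ∩ H^x` -/
def twoSet (H : Subgroup G) : Set (Subgroup G) := {M | ∃ x, x ∉ H ∧ M = H ⊓ cj x H}

theorem twoSet_eq (H : Subgroup G) : EPA.lines G ((1 : G) : G ⧸ H) = twoSet H := by
  have hst : ∀ x : G, stabilizer G (x : G ⧸ H) = cj x H := by
    intro x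
    have h1 : (x : G ⧸ H) = x • ((1 : G) : G ⧸ H) := by
      rw [MulAction.Quotient.smul_coe, smul_eq_mul, mul_one]
    rw [h1, stab_smul, MulAction.stabilizer_quotient]
  ext M
  constructor
  · rintro ⟨b, hb, rfl⟩
    induction b using QuotientGroup.induction_on with
    | H x =>
      refine ⟨x, ?_, ?_⟩
      · intro hx
        apply hb
        rw [eq_comm, QuotientGroup.eq, inv_one, one_mul]
        exact hx
      · rw [MulAction.stabilizer_quotient, hst]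
  · rintro ⟨x, hx, rfl⟩
    refine ⟨x, ?_, ?_⟩
    · intro e
      apply hx
      have := QuotientGroup.eq.1 e.symm
      rwa [inv_one, one_mul] at this
    · rw [MulAction.stabilizer_quotient, hst]

include h

/-- **(LS)** `|G : H| ≤ r ^ 2`, `r` the number of the subgroups `H ∩ H^x`, `x ∉ H`. -/
theorem index_le_sq [Finite G] (hne : ∀ x ∉ H, H ⊓ cj x H ≠ ⊥) : H.index ≤ (twoSet H).ncard ^ 2 := by
  have := h.faithful
  have h1 := h.toEPA.card_le_sq ((1 : G) : G ⧸ H) (by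
    intro b hb e
    have h2 : stabilizer G ((1 : G) : G ⧸ H) ⊓ stabilizer G b ∈ EPA.lines G ((1 : G) : G ⧸ H) := ⟨b, hb, rfl⟩
    rw [twoSet_eq] at h2
    obtain ⟨x, hx, h3⟩ := h2
    exact hne x hx (h3.symm.trans e))
  rw [twoSet_eq] at h1
  exact h1

/-- the number of the conjugates of `H` containing a nontrivial set is at most `r` -/
theorem fix_le [Finite G] {M : Set G} (hM : ∃ m ∈ M, m ≠ 1) :
    {c : G ⧸ H | ∀ m ∈ M, m • c = c}.ncard ≤ (twoSet H).ncard := by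
  have := h.faithful
  rw [← twoSet_eq]
  exact h.toEPA.ncard_fix _ hM

end EP

end Cfsg.Agent.H284
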