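import Cfsg.Agent.H284.EP.Crit

/-!
# Extremely primitive groups: the counting criteria in the `T`-form (helper284)

`EPT A Γ` gives back an extremely primitive pair `EP H` in the group `𝒢 = Γ Inn(Q) ≤ Aut(Q)`; with it (LP), the line
bound and the number of lines are transferred to `A ≤ Q`.
-/

set_option autoImplicit false
set_option linter.unusedSectionVars false

namespace Cfsg.Agent.H284

open MulAction Subgroup

namespace EPT

variable {Q : Type*} [Group Q]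

/-- the almost simple group `Γ Inn(Q)` -/
def GG (Γ : Subgroup (MulAut Q)) : Subgroup (MulAut Q) := Γ ⊔ (MulAut.conj : Q →* MulAut Q).range

/-- `Γ` in `GG Γ` -/
def HH (Γ : Subgroup (MulAut Q)) : Subgroup (GG Γ) := Γ.subgroupOf (GG Γ)

theorem mem_HH {Γ : Subgroup (MulAut Q)} {g : GG Γ} : g ∈ HH Γ ↔ (g : MulAut Q) ∈ Γ := Iff.rfl

/-- `Q` in `GG Γ` -/
def jj (Γ : Subgroup (MulAut Q)) : Q →* GG Γ :=
  (MulAut.conj : Q →* MulAut Q).codRestrict (GG Γ) fun q => (le_sup_right : _ ≤ GG Γ) ⟨q, rfl⟩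

theorem jj_coe (Γ : Subgroup (MulAut Q)) (q : Q) : ((jj Γ q : GG Γ) : MulAut Q) = MulAut.conj q := rfl

theorem jj_conj (Γ : Subgroup (MulAut Q)) (g : GG Γ) (q : Q) : g * jj Γ q * g⁻¹ = jj Γ ((g : MulAut Q) q) := by
  apply Subtype.ext
  show (g : MulAut Q) * MulAut.conj q * (g : MulAut Q)⁻¹ = MulAut.conj _
  exact aut_conj _ _

variable {A : Subgroup Q} {Γ : Subgroup (MulAut Q)} (h : EPT A Γ)

include h

theorem jj_mem {q : Q} : jj Γ q ∈ HH Γ ↔ q ∈ A := h.conj q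

theorem jj_inj : Function.Injective (jj Γ) := by
  obtain ⟨x, hx⟩ := h.exists_notMem
  have hZ : center Q = ⊥ := by
    have hZA : center Q ≤ A := by
      intro z hz
      apply h.selfnorm
      intro a ha
      rw [mem_center_iff] at hz
      rw [← hz a, mul_inv_cancel_right]
      exact ha
    apply h.F1 x hx (center Q) hZA
    · intro σ _ k hk
      rw [mem_center_iff] at hk ⊢
      intro g
      have h1 := hk (σ⁻¹ g)
      have h2 := congrArg σ h1
      rw [map_mul, map_mul, MulAut.apply_inv_self] at h2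
      exact h2
    · intro z hz
      rw [mem_cj]
      have h1 := mem_center_iff.1 hz x
      rw [mul_assoc, ← h1, inv_mul_cancel_left]
      exact hZA hz
  rw [injective_iff_map_eq_one]
  intro q hq
  have h1 : q ∈ center Q := by
    rw [mem_center_iff]
    intro g
    have h2 : MulAut.conj q = 1 := Subtype.ext_iff.1 hq
    have h3 : q * g * q⁻¹ = g := by
      have := congrArg (fun σ : MulAut Q => σ g) h2
      exact this
    rw [mul_inv_eq_iff_eq_mul] at h3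
    exact h3.symm
  rw [hZ, mem_bot] at h1
  exact h1

omit h in
theorem exists_jj (g : GG Γ) : ∃ q : Q, ∃ a ∈ HH Γ, g = jj Γ q * a := by
  have hn : ∀ m ∈ Γ, ∀ n ∈ (MulAut.conj : Q →* MulAut Q).range, m * n * m⁻¹ ∈ (MulAut.conj : Q →* MulAut Q).range := by
    rintro m _ _ ⟨q, rfl⟩
    exact ⟨m q, (aut_conj m q).symm⟩
  obtain ⟨_, ⟨q, rfl⟩, m, hm, e⟩ := mem_sup_norm hn g.2
  exact ⟨q, ⟨m, (le_sup_left : Γ ≤ GG Γ) hm⟩, hm, Subtype.ext e⟩

theorem stab_iff {g : GG Γ} (hg : g ∈ HH Γ) (x : Q) : g ∈ cj (jj Γ x) (HH Γ) ↔ x⁻¹ * (g : MulAut Q) x ∈ A := by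
  rw [mem_cj, ← jj_mem h, map_mul, map_inv, ← jj_conj]
  have e1 : (jj Γ x)⁻¹ * (g * jj Γ x * g⁻¹) = (jj Γ x)⁻¹ * g * jj Γ x * g⁻¹ := by group
  rw [e1]
  exact (Subgroup.mul_mem_cancel_right (HH Γ) ((HH Γ).inv_mem hg)).symm

omit h in
theorem exists_cj (x : GG Γ) : ∃ q : Q, cj x (HH Γ) = cj (jj Γ q) (HH Γ) ∧ (x ∈ HH Γ ↔ jj Γ q ∈ HH Γ) := by
  obtain ⟨q, a, ha, rfl⟩ := exists_jj x
  refine ⟨q, ?_, Subgroup.mul_mem_cancel_right _ ha⟩
  rw [cj_mul, cj_eq_self ha]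

/-- **`EPT` gives an extremely primitive pair.** -/
theorem toEP : EP (HH Γ) := by
  obtain ⟨x₀, hx₀⟩ := h.exists_notMem
  refine ⟨⟨?_, ?_⟩, ?_, ?_, ?_⟩
  · intro e
    apply hx₀
    rw [← jj_mem h, e]
    exact mem_top _
  · intro L hL
    have h1 : A < L.comap (jj Γ) := by
      refine lt_of_le_of_ne (fun a ha => hL.le ((jj_mem h).2 ha)) ?_
      intro e
      apply hL.not_ge
      intro g hg
      obtain ⟨q, a, ha, rfl⟩ := exists_jj g
      have h2 : q ∈ L.comap (jj Γ) := (Subgroup.mul_mem_cancel_right L (hL.le ha)).1 hg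
      rw [← e] at h2
      exact (HH Γ).mul_mem ((jj_mem h).2 h2) ha
    have h2 := h.max.2 _ h1
    rw [Subgroup.eq_top_iff']
    intro g
    obtain ⟨q, a, ha, rfl⟩ := exists_jj g
    refine L.mul_mem ?_ (hL.le ha)
    have : q ∈ L.comap (jj Γ) := by rw [h2]; exact mem_top _
    exact this
  · -- core
    set N := (HH Γ).normalCore with hN
    have hNn : N.Normal := Subgroup.normalCore_normal (HH Γ)
    have hcore : ∀ k ∈ N, k ∈ HH Γ := fun k hk => Subgroup.normalCore_le (HH Γ) hk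
    clear_value N
    have h1 := h.F1' x₀ hx₀ (N.map (GG Γ).subtype) (by
      rintro _ ⟨k, hk, rfl⟩
      exact mem_HH.1 (hcore k hk)) (by
      rintro σ hσ _ ⟨k, hk, rfl⟩
      exact ⟨⟨σ, (le_sup_left : Γ ≤ GG Γ) hσ⟩ * k * ⟨σ, (le_sup_left : Γ ≤ GG Γ) hσ⟩⁻¹, hNn.conj_mem k hk _, rfl⟩) (by
      rintro _ ⟨k, hk, rfl⟩
      rw [Subgroup.subtype_apply, ← stab_iff h (hcore k hk), mem_cj]
      have := hNn.conj_mem k hk (jj Γ x₀)⁻¹
      rw [inv_inv] at this
      exact hcore _ this)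
    rwa [Subgroup.map_eq_bot_iff_of_injective _ (GG Γ).subtype_injective] at h1
  · intro e
    obtain ⟨a, ha⟩ := Subgroup.ne_bot_iff_exists_ne_one.1 h.ne
    have h1 : jj Γ a ∈ HH Γ := (jj_mem h).2 a.2
    rw [e, mem_bot] at h1
    exact ha (Subtype.ext (jj_inj h (h1.trans (map_one _).symm)))
  · intro x hx L h1 h2
    obtain ⟨q, e1, e2⟩ := exists_cj x
    rw [e1] at h1 ⊢
    have hq : q ∉ A := fun e => hx (e2.2 ((jj_mem h).2 e))
    have hLΓ : L.map (GG Γ).subtype ≤ Γ := by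
      rintro _ ⟨k, hk, rfl⟩
      exact h2 hk
    rcases h.two q hq (L.map (GG Γ).subtype) hLΓ (by
      intro σ hσ hσx
      refine ⟨⟨σ, (le_sup_left : Γ ≤ GG Γ) hσ⟩, h1 ⟨hσ, ?_⟩, rfl⟩
      exact (stab_iff h (g := ⟨σ, (le_sup_left : Γ ≤ GG Γ) hσ⟩) hσ q).2 hσx) with h3 | h3
    · right
      apply le_antisymm h2
      intro g hg
      have h4 : (g : MulAut Q) ∈ L.map (GG Γ).subtype := by rw [h3]; exact hg
      exact (Subgroup.mem_map_iff_mem (GG Γ).subtype_injective).1 h4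
    · left
      apply le_antisymm _ h1
      intro g hg
      exact ⟨h2 hg, (stab_iff h (h2 hg) q).2 (h3 _ ⟨g, hg, rfl⟩)⟩

omit h in
/-- the subgroups `A ∩ A^x` -/
def M0set (A : Subgroup Q) : Set (Subgroup Q) := {M | ∃ x, x ∉ A ∧ M = A ⊓ cj x A}

omit h in
/-- the subgroups `A ∩ A^x` containing `D` -/
def M0setD (A D : Subgroup Q) : Set (Subgroup Q) := {M | M ∈ M0set A ∧ D ≤ M}

theorem comap_cj (x : Q) : (cj (jj Γ x) (HH Γ)).comap (jj Γ) = cj x A := by
  ext q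
  rw [mem_comap, mem_cj, mem_cj, ← map_inv, ← map_mul, ← map_mul, jj_mem h]

theorem comap_M (x : Q) : (HH Γ ⊓ cj (jj Γ x) (HH Γ)).comap (jj Γ) = A ⊓ cj x A := by
  rw [Subgroup.comap_inf, comap_cj h]
  congr 1
  ext q
  exact jj_mem h

theorem le_comap_iff {D : Subgroup Q} {M : Subgroup (GG Γ)} : D.map (jj Γ) ≤ M ↔ D ≤ M.comap (jj Γ) :=
  Subgroup.map_le_iff_le_comap

/-- the correspondence between the two point stabilisers in `H` and the `A ∩ A^x` -/
theorem comap_bijOn [Finite Q] (D : Subgroup Q) :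
    Set.BijOn (fun M : Subgroup (GG Γ) => M.comap (jj Γ)) (EP.twoSetD (HH Γ) (D.map (jj Γ))) (M0setD A D) := by
  have hEP := toEP h
  have hnorm : ∀ (M : Subgroup (GG Γ)) (m : GG Γ), m ∈ M → ∀ k ∈ M.comap (jj Γ), (m : MulAut Q) k ∈ M.comap (jj Γ) := by
    intro M m hm k hk
    rw [mem_comap, ← jj_conj]
    exact M.mul_mem (M.mul_mem hm hk) (M.inv_mem hm)
  have key : ∀ x y : Q, x ∉ A → y ∉ A → A ⊓ cj x A = A ⊓ cj y A →
      HH Γ ⊓ cj (jj Γ y) (HH Γ) ≤ HH Γ ⊓ cj (jj Γ x) (HH Γ) := by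
    intro x y hx _ he m hm
    refine ⟨(mem_inf.1 hm).1, (stab_iff h (mem_inf.1 hm).1 x).2 ?_⟩
    apply h.norm x hx (A ⊓ cj x A) le_rfl (fun σ hσ hσx k hk => h.stab_M0 hσ hσx hk) (h.M0 x hx) _ (mem_inf.1 hm).1
    intro k hk
    rw [he, ← comap_M h] at hk ⊢
    exact hnorm _ m hm k hk
  refine ⟨?_, ?_, ?_⟩
  · rintro M ⟨⟨x, hx, rfl⟩, hD⟩
    obtain ⟨q, e1, e2⟩ := exists_cj x
    have hq : q ∉ A := fun e => hx (e2.2 ((jj_mem h).2 e))
    rw [e1] at hD
    refine ⟨⟨q, hq, ?_⟩, ?_⟩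
    · show (HH Γ ⊓ cj x (HH Γ)).comap (jj Γ) = _
      rw [e1, comap_M h]
    · show D ≤ (HH Γ ⊓ cj x (HH Γ)).comap (jj Γ)
      rw [e1]
      exact (le_comap_iff h).1 hD
  · rintro M ⟨⟨x, hx, rfl⟩, -⟩ N ⟨⟨y, hy, rfl⟩, -⟩ he
    obtain ⟨p, e1, e2⟩ := exists_cj x
    obtain ⟨q, e3, e4⟩ := exists_cj y
    have hp : p ∉ A := fun e => hx (e2.2 ((jj_mem h).2 e))
    have hq : q ∉ A := fun e => hy (e4.2 ((jj_mem h).2 e))
    have he' : (HH Γ ⊓ cj x (HH Γ)).comap (jj Γ) = (HH Γ ⊓ cj y (HH Γ)).comap (jj Γ) := he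
    rw [e1, e3, comap_M h, comap_M h] at he'
    rw [e1, e3]
    exact le_antisymm (key q p hq hp he'.symm) (key p q hp hq he')
  · rintro _ ⟨⟨x, hx, rfl⟩, hD⟩
    refine ⟨HH Γ ⊓ cj (jj Γ x) (HH Γ), ⟨⟨jj Γ x, fun e => hx ((jj_mem h).1 e), rfl⟩, ?_⟩, comap_M h x⟩
    rw [le_comap_iff h, comap_M h]
    exact hD

theorem ncard_twoSetD [Finite Q] (D : Subgroup Q) :
    (EP.twoSetD (HH Γ) (D.map (jj Γ))).ncard = (M0setD A D).ncard := by
  have h1 := comap_bijOn h D
  rw [← h1.image_eq, Set.InjOn.ncard_image h1.injOn]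

theorem finite_GG [Finite Q] : Finite (GG Γ) := by
  have : Finite (MulAut Q) := inferInstance
  infer_instance

theorem map_cj (D : Subgroup Q) (c : Q) : cj (jj Γ c) (D.map (jj Γ)) = (cj c D).map (jj Γ) := by
  rw [cj, cj, Subgroup.map_map, Subgroup.map_map]
  congr 1
  ext q
  show ((jj Γ c * jj Γ q * (jj Γ c)⁻¹ : GG Γ) : MulAut Q) _ = ((jj Γ (c * q * c⁻¹) : GG Γ) : MulAut Q) _
  rw [map_mul, map_mul, map_inv]

/-- **(LP)** the local principle: `D ≤ A`, `C` normalises `D` -/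
theorem LP [Finite Q] {D C : Subgroup Q} (hD : D ≤ A) (hC : ∀ c ∈ C, cj c D = D) :
    C ≤ A ∨ (∃ M ∈ M0setD A D, ∀ c ∈ C, cj c M = M) ∨
      A.relIndex C ≤ 1 + (M0setD A D).ncard * ((M0setD A D).ncard - 1) := by
  have := finite_GG h
  have h1 := (toEP h).LP (D := D.map (jj Γ)) (C := C.map (jj Γ)) (by
    rw [Subgroup.map_le_iff_le_comap]
    intro d hd
    exact (jj_mem h).2 (hD hd)) (by
    rintro _ ⟨c, hc, rfl⟩
    rw [map_cj h, hC c hc])
  rw [ncard_twoSetD h] at h1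
  rcases h1 with h1 | ⟨M, hM, h1⟩ | ⟨-, h1⟩
  · left
    intro c hc
    exact (jj_mem h).1 (h1 ⟨c, hc, rfl⟩)
  · right; left
    refine ⟨M.comap (jj Γ), (comap_bijOn h D).mapsTo hM, ?_⟩
    intro c hc
    have h2 := h1 _ ⟨c, hc, rfl⟩
    ext q
    rw [mem_cj, mem_comap, mem_comap, map_mul, map_mul, map_inv, ← mem_cj, h2]
  · right; right
    have h2 : A.relIndex C = (HH Γ).relIndex (C.map (jj Γ)) := by
      have h3 : A = (HH Γ).comap (jj Γ) := by
        ext q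
        exact (jj_mem h).symm
      rw [h3]
      exact Subgroup.relIndex_comap _ _ _
    rw [h2]
    exact h1

omit h in
/-- the number of points of the line of `M = A ∩ A^x`: the points `c = 1` and those with `A ∩ A^c = M` -/
noncomputable def nline (A M : Subgroup Q) : ℕ :=
  {c : Q ⧸ A | c = ((1 : Q) : Q ⧸ A) ∨ A ⊓ stabilizer Q c = M}.ncard

/-- **line bound**: `D ≤ M`, `D ≤ A^y`, `y` not on the line of `M` -/
theorem line_bound [Finite Q] {M D : Subgroup Q} (hM : M ∈ M0set A) (hDM : D ≤ M) {y : Q} (hyA : y ∉ A)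
    (hy : D ≤ cj y A) (hyM : A ⊓ cj y A ≠ M) : nline A M ≤ (M0setD A (cj y⁻¹ D)).ncard := by
  have := finite_GG h
  have hEP := toEP h
  obtain ⟨x, hx, rfl⟩ := hM
  have hxH : jj Γ x ∉ HH Γ := fun e => hx ((jj_mem h).1 e)
  have hbot : ∀ D : Subgroup Q, (⊥ : Subgroup Q) ≤ D := fun D => bot_le
  have hinj := (comap_bijOn h ⊥).injOn
  have hmemb : ∀ z : Q, z ∉ A → HH Γ ⊓ cj (jj Γ z) (HH Γ) ∈ EP.twoSetD (HH Γ) ((⊥ : Subgroup Q).map (jj Γ)) := by
    intro z hz
    refine ⟨⟨jj Γ z, fun e => hz ((jj_mem h).1 e), rfl⟩, ?_⟩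
    rw [Subgroup.map_bot]
    exact bot_le
  have hstab : ∀ z : Q, stabilizer Q (z : Q ⧸ A) = cj z A := fun z => EP.stab_coe z
  -- two points with the same `M0`
  have hsame : ∀ z : Q, z ∉ A → (HH Γ ⊓ cj (jj Γ x) (HH Γ) ≤ cj (jj Γ z) (HH Γ) ↔ A ⊓ cj z A = A ⊓ cj x A) := by
    intro z hz
    constructor
    · intro h1
      rcases hEP.two _ hxH (HH Γ ⊓ cj (jj Γ z) (HH Γ)) (le_inf inf_le_left h1) inf_le_left with h2 | h2
      · have h3 := congrArg (fun M : Subgroup (GG Γ) => M.comap (jj Γ)) h2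
        rw [comap_M h, comap_M h] at h3
        exact h3
      · exfalso
        exact hEP.not_le_cj (fun e => hz ((jj_mem h).1 e)) (inf_eq_left.1 h2)
    · intro h1
      have h2 : HH Γ ⊓ cj (jj Γ z) (HH Γ) = HH Γ ⊓ cj (jj Γ x) (HH Γ) := by
        apply hinj (hmemb z hz) (hmemb x hx)
        show (HH Γ ⊓ cj (jj Γ z) (HH Γ)).comap (jj Γ) = (HH Γ ⊓ cj (jj Γ x) (HH Γ)).comap (jj Γ)
        rw [comap_M h, comap_M h, h1]
      rw [← h2]
      exact inf_le_right
  have h1 := hEP.line_bound (M := HH Γ ⊓ cj (jj Γ x) (HH Γ)) (D := D.map (jj Γ)) ⟨jj Γ x, hxH, rfl⟩ (by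
      rw [le_comap_iff h, comap_M h]; exact hDM) (y := jj Γ y) (by
      rw [le_comap_iff h, comap_cj h]; exact hy) (by
      intro e
      exact hyM ((hsame y hyA).1 e))
  rw [← map_inv, map_cj h, ncard_twoSetD h] at h1
  refine le_trans ?_ h1
  -- the map of the points
  let φ : Q ⧸ A → GG Γ ⧸ HH Γ := fun c => ((jj Γ c.out : GG Γ) : GG Γ ⧸ HH Γ)
  have hφ : ∀ q : Q, φ (q : Q ⧸ A) = ((jj Γ q : GG Γ) : GG Γ ⧸ HH Γ) := by
    intro q
    show ((jj Γ (Quotient.out (q : Q ⧸ A)) : GG Γ) : GG Γ ⧸ HH Γ) = ((jj Γ q : GG Γ) : GG Γ ⧸ HH Γ)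
    have h1 : ((Quotient.out (q : Q ⧸ A) : Q) : Q ⧸ A) = (q : Q ⧸ A) := QuotientGroup.out_eq' _
    have h2 := QuotientGroup.eq.1 h1
    rw [QuotientGroup.eq, ← map_inv, ← map_mul, jj_mem h]
    exact h2
  have hφi : Function.Injective φ := by
    intro c d hcd
    induction c using QuotientGroup.induction_on with
    | H x =>
      induction d using QuotientGroup.induction_on with
      | H y =>
        rw [hφ, hφ, QuotientGroup.eq, ← map_inv, ← map_mul, jj_mem h] at hcd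
        rw [QuotientGroup.eq]
        exact hcd
  refine Set.ncard_le_ncard_of_injOn φ ?_ hφi.injOn (Set.toFinite _)
  intro c hc m hm
  induction c using QuotientGroup.induction_on with
  | H z =>
    have h3 : m ∈ stabilizer (GG Γ) (φ (z : Q ⧸ A)) := by
      rw [hφ, EP.stab_coe]
      by_cases hz : z ∈ A
      · rw [cj_eq_self ((jj_mem h).2 hz)]
        exact (mem_inf.1 hm).1
      · rcases hc with hc | hc
        · exfalso
          apply hz
          have := QuotientGroup.eq.1 hc.symm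
          rwa [inv_one, one_mul] at this
        · rw [hstab] at hc
          exact (hsame z hz).2 hc hm
    exact h3

omit h in
/-- `|Q : A| = 1 + ∑ (nline - 1)` -/
theorem index_eq_sum [Finite Q] (A : Subgroup Q) : A.index = 1 + ∑ᶠ M ∈ M0set A, (nline A M - 1) := by
  classical
  have := Fintype.ofFinite (Q ⧸ A)
  have hfin : (M0set A).Finite := Set.toFinite _
  rw [finsum_mem_eq_finite_toFinset_sum _ hfin]
  have hstab : ∀ z : Q, stabilizer Q (z : Q ⧸ A) = cj z A := fun z => EP.stab_coe z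
  have h1 : (Finset.univ.erase ((1 : Q) : Q ⧸ A)).card = ∑ M ∈ hfin.toFinset,
      ((Finset.univ.filter fun c : Q ⧸ A => c = ((1 : Q) : Q ⧸ A) ∨ A ⊓ stabilizer Q c = M).erase
        ((1 : Q) : Q ⧸ A)).card := by
    rw [← Finset.card_biUnion]
    · congr 1
      ext b
      rw [Finset.mem_erase, Finset.mem_biUnion]
      constructor
      · intro hb
        refine ⟨A ⊓ stabilizer Q b, ?_, ?_⟩
        · rw [Set.Finite.mem_toFinset]
          induction b using QuotientGroup.induction_on with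
          | H z =>
            refine ⟨z, fun hz => hb.1 ?_, by rw [hstab]⟩
            rw [eq_comm, QuotientGroup.eq, inv_one, one_mul]
            exact hz
        · rw [Finset.mem_erase, Finset.mem_filter]
          exact ⟨hb.1, Finset.mem_univ _, Or.inr rfl⟩
      · rintro ⟨M, _, hM⟩
        rw [Finset.mem_erase] at hM
        exact ⟨hM.1, Finset.mem_univ _⟩
    · intro M _ N _ hMN
      rw [Function.onFun, Finset.disjoint_left]
      intro c hc hc'
      apply hMN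
      rw [Finset.mem_erase, Finset.mem_filter] at hc hc'
      rw [← hc.2.2.resolve_left hc.1, ← hc'.2.2.resolve_left hc'.1]
  have h2 : ∀ M ∈ hfin.toFinset,
      ((Finset.univ.filter fun c : Q ⧸ A => c = ((1 : Q) : Q ⧸ A) ∨ A ⊓ stabilizer Q c = M).erase
        ((1 : Q) : Q ⧸ A)).card = nline A M - 1 := by
    intro M _
    rw [Finset.card_erase_of_mem]
    · congr 1
      rw [nline, Set.ncard_eq_toFinset_card']
      congr 1
      ext c
      rw [Finset.mem_filter, Set.mem_toFinset]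
      exact ⟨fun h => h.2, fun h => ⟨Finset.mem_univ _, h⟩⟩
    · rw [Finset.mem_filter]
      exact ⟨Finset.mem_univ _, Or.inl rfl⟩
  rw [← Finset.sum_congr rfl h2, ← h1, Finset.card_erase_of_mem (Finset.mem_univ _), Finset.card_univ,
    Subgroup.index, Nat.card_eq_fintype_card]
  have : 0 < Fintype.card (Q ⧸ A) := Fintype.card_pos_iff.2 ⟨((1 : Q) : Q ⧸ A)⟩
  omega

omit h in
/-- if all lines have at most `k + 1` points -/
theorem index_le_of_lines [Finite Q] (A : Subgroup Q) {k : ℕ} (hk : ∀ M ∈ M0set A, nline A M ≤ k + 1) :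
    A.index ≤ 1 + (M0set A).ncard * k := by
  classical
  rw [index_eq_sum A]
  have hfin : (M0set A).Finite := Set.toFinite _
  rw [finsum_mem_eq_finite_toFinset_sum _ hfin]
  apply Nat.add_le_add_left
  refine (Finset.sum_le_card_nsmul _ _ k ?_).trans ?_
  · intro M hM
    rw [Set.Finite.mem_toFinset] at hM
    have := hk M hM
    omega
  · rw [smul_eq_mul, ← Set.ncard_eq_toFinset_card _ hfin]

end EPT

end Cfsg.Agent.H284
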